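import Groth.Agent.GeomComp5.Constancy
import Groth.Agent.FlatMisc.GenerizeNear
import Groth.Agent.S0414

/-!
# Constancy near the generic point over an arbitrary irreducible base
-/

set_option autoImplicit false
set_option linter.style.haveILetI false
set_option backward.isDefEq.respectTransparency false
set_option backward.isDefEq.respectTransparency.types false

open CategoryTheory CategoryTheory.Limits AlgebraicGeometry Topology TopologicalSpace

namespace Groth.Agent.GeomComp5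

universe u

variable {X S : Scheme.{u}}

theorem exists_nonempty_inter {T : Type*} [TopologicalSpace T] [IrreducibleSpace T] [QuasiSober T] {ι : Type*} [Finite ι]
    (V : ι → Set T) (ho : ∀ i, IsOpen (V i)) (hne : ∀ i, (V i).Nonempty) :
    IsOpen (⋂ i, V i) ∧ genericPoint T ∈ ⋂ i, V i :=
  ⟨isOpen_iInter_of_finite ho, Set.mem_iInter.2 fun i =>
    ((genericPoint_spec T).mem_open_set_iff (ho i)).2 (by simpa using hne i)⟩

/-- A space covered by quasi-separated opens with compact pairwise intersections is quasi-separated. -/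
theorem quasiSeparatedSpace_of_cover {T : Type*} [TopologicalSpace T] [PrespectralSpace T] {ι : Type*} [Finite ι]
    (U : ι → Set T) (hU : ∀ i, IsOpen (U i)) (hcov : ⋃ i, U i = Set.univ) (hqs : ∀ i, IsQuasiSeparated (U i))
    (hint : ∀ i j, IsCompact (U i ∩ U j)) : QuasiSeparatedSpace T := by
  have key : ∀ (i : ι) (A : Set T), IsOpen A → IsCompact A → IsCompact (A ∩ U i) := by
    intro i A hA hAc
    have hB := PrespectralSpace.isTopologicalBasis (X := T)
    choose! B hBmem hxB hBsub using fun (x : T) (hx : x ∈ A) =>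
      (hB.exists_subset_of_mem_open (show x ∈ A ∩ U ((Set.mem_iUnion.1 (hcov.ge (Set.mem_univ x))).choose) from
        ⟨hx, (Set.mem_iUnion.1 (hcov.ge (Set.mem_univ x))).choose_spec⟩) (hA.inter (hU _)))
    obtain ⟨t, htA, htfin, htcov⟩ := hAc.elim_finite_subcover_image (b := A) (fun x hx => (hBmem x hx).1)
      (fun x hx => Set.mem_biUnion hx (hxB x hx))
    have hsub : A ∩ U i = ⋃ x ∈ t, B x ∩ U i := by
      ext y
      simp only [Set.mem_inter_iff, Set.mem_iUnion, exists_prop]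
      exact ⟨fun ⟨hy, hyi⟩ => (Set.mem_iUnion₂.1 (htcov hy)).imp fun x hx => ⟨hx.1, hx.2, hyi⟩,
        fun ⟨x, hx, hy, hyi⟩ => ⟨(hBsub x (htA hx) hy).1, hyi⟩⟩
    rw [hsub]
    refine htfin.isCompact_biUnion fun x hx => ?_
    let k := (Set.mem_iUnion.1 (hcov.ge (Set.mem_univ x))).choose
    have hBk : B x ⊆ U k := (hBsub x (htA hx)).trans Set.inter_subset_right
    have : B x ∩ U i = B x ∩ (U k ∩ U i) := by
      rw [← Set.inter_assoc, Set.inter_eq_left.2 hBk]
    rw [this]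
    exact hqs k (B x) (U k ∩ U i) hBk (hBmem x (htA hx)).1 (hBmem x (htA hx)).2 Set.inter_subset_left
      ((hU k).inter (hU i)) (hint k i)
  refine ⟨fun A B hA hAc hB hBc => ?_⟩
  have : A ∩ B = ⋃ i, (A ∩ U i) ∩ (B ∩ U i) := by
    ext y
    simp only [Set.mem_inter_iff, Set.mem_iUnion]
    refine ⟨fun ⟨ha, hb⟩ => ?_, fun ⟨i, ⟨ha, _⟩, ⟨hb, _⟩⟩ => ⟨ha, hb⟩⟩
    obtain ⟨i, hi⟩ := Set.mem_iUnion.1 (hcov.ge (Set.mem_univ y))
    exact ⟨i, ⟨ha, hi⟩, ⟨hb, hi⟩⟩
  rw [this]
  exact isCompact_iUnion fun i => hqs i _ _ Set.inter_subset_right (hA.inter (hU i)) (key i A hA hAc)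
    Set.inter_subset_right (hB.inter (hU i)) (key i B hB hBc)

variable [IrreducibleSpace S] [IsAffine S] (f : X ⟶ S) [LocallyOfFiniteType f] [QuasiCompact f]

/-- Over a small open an open of an affine piece is quasi-compact. -/
theorem exists_open_compact {U : X.Opens} (hU : IsAffineOpen U) {O : X.Opens} (hO : O ≤ U) :
    ∃ V : Set S, IsOpen V ∧ V.Nonempty ∧ ∀ V' : S.Opens, IsCompact (V' : Set S) → (V' : Set S) ⊆ V →
      IsCompact ((O : Set X) ∩ f ⁻¹' V') := by
  let η := genericPoint S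
  haveI : LocallyOfFiniteType (f.fiberToSpecResidueField η) :=
    MorphismProperty.pullback_snd (P := @LocallyOfFiniteType) _ _ inferInstance
  haveI : QuasiCompact (f.fiberToSpecResidueField η) := MorphismProperty.pullback_snd (P := @QuasiCompact) _ _ inferInstance
  haveI : IsLocallyNoetherian (f.fiber η) := LocallyOfFiniteType.isLocallyNoetherian (f.fiberToSpecResidueField η)
  haveI : CompactSpace (f.fiber η) := QuasiCompact.compactSpace_of_compactSpace (f.fiberToSpecResidueField η)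
  haveI : AlgebraicGeometry.IsNoetherian (f.fiber η) := {}
  have hOη : IsCompact ((O : Set X) ∩ f ⁻¹' {η}) := by
    rw [← Scheme.Hom.range_fiberι, ← Set.image_preimage_eq_inter_range]
    exact (NoetherianSpace.isCompact _).image (f.fiberι η).continuous
  choose! B hBaff hxB hBO using fun (x : X) (hx : x ∈ (O : Set X) ∩ f ⁻¹' {η}) =>
    exists_isAffineOpen_mem_and_subset (show x ∈ O from hx.1)
  obtain ⟨t, htsub, htfin, htcov⟩ := hOη.elim_finite_subcover_image (b := (O : Set X) ∩ f ⁻¹' {η})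
    (c := fun x => (B x : Set X)) (fun x _ => (B x).isOpen) (fun x hx => Set.mem_biUnion hx (hxB x hx))
  let O' : X.Opens := ⟨⋃ x ∈ t, (B x : Set X), isOpen_biUnion fun x _ => (B x).isOpen⟩
  have hO'c : IsCompact (O' : Set X) := htfin.isCompact_biUnion fun x hx => (hBaff x (htsub hx)).isCompact
  have hO'O : (O' : Set X) ⊆ O := Set.iUnion₂_subset fun x hx => hBO x (htsub hx)
  haveI : IsAffine (U : Scheme.{u}) := hU
  obtain ⟨T, i, hi, -, hr⟩ := H23.RedSub.exists_reduced_subscheme (U : Scheme.{u})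
    (S := (U.ι ⁻¹' (O' : Set X))ᶜ) (O'.isOpen.preimage U.ι.continuous).isClosed_compl.isLocallyClosed
  haveI := hi
  haveI : IsClosedImmersion i := IsClosedImmersion.of_isPreimmersion i (by
    rw [hr]; exact (O'.isOpen.preimage U.ι.continuous).isClosed_compl)
  haveI : QuasiCompact (U.ι ≫ f) := HasAffineProperty.iff_of_isAffine.mpr (inferInstance : CompactSpace (U : Scheme.{u}))
  haveI : LocallyOfFiniteType i := inferInstance
  haveI : LocallyOfFiniteType (i ≫ U.ι ≫ f) := inferInstance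
  haveI : QuasiCompact (i ≫ U.ι ≫ f) := inferInstance
  obtain ⟨V, hV, hgen⟩ := FlatMisc.GenerizeNear.exists_open (i ≫ U.ι ≫ f)
  refine ⟨V, V.isOpen, hV, fun V' hV'c hV'V => ?_⟩
  have heq : (O : Set X) ∩ f ⁻¹' V' = (O' : Set X) ∩ f ⁻¹' V' := by
    refine subset_antisymm (fun x hx => ⟨?_, hx.2⟩) (Set.inter_subset_inter_left _ hO'O)
    by_contra hxO'
    obtain ⟨w, hw⟩ : (⟨x, hO hx.1⟩ : (U : Scheme.{u})) ∈ Set.range i := hr.ge hxO'
    have hwx : U.ι (i w) = x := by rw [hw]; rfl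
    obtain ⟨z, hzw, hzη⟩ := hgen w (by
      show f (U.ι (i w)) ∈ V
      rw [hwx]
      exact hV'V hx.2)
    have hzO : U.ι (i z) ∈ O := by
      refine ((hzw.map i.continuous).map U.ι.continuous).mem_open O.isOpen ?_
      rw [hwx]
      exact hx.1
    exact (hr.le ⟨z, rfl⟩ : i z ∈ (U.ι ⁻¹' (O' : Set X))ᶜ) (by
      obtain ⟨y, hy, hyz⟩ := Set.mem_iUnion₂.1 (htcov ⟨hzO, hzη⟩)
      exact Set.mem_biUnion hy hyz)
  rw [heq]
  haveI : QuasiCompact (O'.ι ≫ f) := by
    haveI : CompactSpace (O' : Scheme.{u}) := isCompact_iff_compactSpace.mp hO'c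
    exact HasAffineProperty.iff_of_isAffine.mpr (inferInstance : CompactSpace (O' : Scheme.{u}))
  have h := ((O'.ι ≫ f).isCompact_preimage hV'c).image O'.ι.continuous
  have e : O'.ι '' (((O'.ι ≫ f) ⁻¹ᵁ V' : TopologicalSpace.Opens _) : Set (O' : Scheme.{u})) =
      (O' : Set X) ∩ f ⁻¹' (V' : Set S) := by
    ext x
    constructor
    · rintro ⟨y, hy, rfl⟩
      exact ⟨y.2, hy⟩
    · rintro ⟨hx, hxV⟩
      exact ⟨⟨x, hx⟩, hxV, rfl⟩
  rw [e] at h
  exact h

/-- Over a small open the source is quasi-separated. -/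
theorem exists_open_qs : ∃ V : Set S, IsOpen V ∧ genericPoint S ∈ V ∧
    ∀ V' : S.Opens, IsAffineOpen V' → (V' : Set S) ⊆ V → QuasiSeparatedSpace (f ⁻¹ᵁ V' : Scheme.{u}) := by
  haveI : CompactSpace X := QuasiCompact.compactSpace_of_compactSpace f
  let 𝒰 := X.affineCover.finiteSubcover
  let U : 𝒰.I₀ → X.Opens := fun i => (𝒰.f i).opensRange
  have hUaff : ∀ i, IsAffineOpen (U i) := fun i => isAffineOpen_opensRange _
  haveI : Finite 𝒰.I₀ := Finite.of_fintype _
  choose V hVo hVne hVc using fun ij : 𝒰.I₀ × 𝒰.I₀ =>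
    exists_open_compact f (hUaff ij.1) (inf_le_left : U ij.1 ⊓ U ij.2 ≤ U ij.1)
  obtain ⟨h1, h2⟩ := exists_nonempty_inter V hVo hVne
  refine ⟨⋂ ij, V ij, h1, h2, fun V' hV' hsub => ?_⟩
  have hcov : ∀ x : X, ∃ i, x ∈ U i := fun x => ⟨𝒰.idx x, 𝒰.covers x⟩
  haveI : PrespectralSpace ↥(f ⁻¹ᵁ V' : Scheme.{u}) := inferInstance
  refine quasiSeparatedSpace_of_cover (T := ↥(f ⁻¹ᵁ V' : Scheme.{u}))
    (fun i => ((f ⁻¹ᵁ V').ι ⁻¹' (U i : Set X))) (fun i => (U i).isOpen.preimage (Scheme.Hom.continuous _))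
    (Set.eq_univ_of_forall fun x => Set.mem_iUnion.2 (hcov ((f ⁻¹ᵁ V').ι x))) (fun i => ?_) (fun i j => ?_)
  · intro A B hA hAo hAc hB hBo hBc
    have hι := (f ⁻¹ᵁ V').ι.isOpenEmbedding
    refine (hι.isInducing.isCompact_iff).2 ?_
    rw [Set.image_inter hι.injective]
    exact (hUaff i).isQuasiSeparated _ _ (Set.image_subset_iff.2 hA) (hι.isOpenMap _ hAo) (hAc.image hι.continuous)
      (Set.image_subset_iff.2 hB) (hι.isOpenMap _ hBo) (hBc.image hι.continuous)
  · refine ((f ⁻¹ᵁ V').ι.isOpenEmbedding.isInducing.isCompact_iff).2 ?_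
    rw [← Set.preimage_inter, Set.image_preimage_eq_inter_range, Scheme.Opens.range_ι]
    exact hVc (i, j) V' hV'.isCompact (hsub.trans (Set.iInter_subset _ (i, j)))

end Groth.Agent.GeomComp5

namespace Groth.Agent.GeomComp5

universe v

/-- Near the generic point of an irreducible base the numbers of geometric components are constant. -/
theorem near_generic_irreducible {X S : Scheme.{v}} [IrreducibleSpace S] (f : X ⟶ S) [LocallyOfFiniteType f]
    [QuasiCompact f] :
    ∃ U : Set S, IsOpen U ∧ genericPoint S ∈ U ∧ ∀ s ∈ U, SameCounts f s (genericPoint S) := by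
  -- reduce to a reduced base
  obtain ⟨S', i, hi, hred, hr⟩ := H23.RedSub.exists_reduced_subscheme S (S := Set.univ) isClosed_univ.isLocallyClosed
  haveI := hi
  obtain ⟨η', hη'⟩ := (show genericPoint S ∈ Set.range i by rw [hr]; trivial)
  haveI : Nonempty S' := ⟨η'⟩
  let e : S' ≃ₜ S := i.isEmbedding.toHomeomorph.trans ((Homeomorph.setCongr hr).trans (Homeomorph.Set.univ S))
  haveI : IrreducibleSpace S' := e.symm.irreducibleSpace_iff.mp inferInstance
  have hgen : η' = genericPoint S' := by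
    refine ((show η' ⤳ genericPoint S' from ?_).antisymm ((genericPoint_spec S').specializes (Set.mem_univ _))).eq
    rw [← i.isEmbedding.isInducing.specializes_iff, hη']
    exact (genericPoint_spec S).specializes (Set.mem_univ _)
  let f' := pullback.snd f i
  haveI : LocallyOfFiniteType f' := MorphismProperty.pullback_snd (P := @LocallyOfFiniteType) _ _ inferInstance
  haveI : QuasiCompact f' := MorphismProperty.pullback_snd (P := @QuasiCompact) _ _ inferInstance
  obtain ⟨U₀, hd, -, hlfp⟩ := S0414.result f'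
  have hηU₀ : genericPoint S' ∈ U₀ :=
    ((genericPoint_spec S').mem_open_set_iff U₀.isOpen).2 (by simpa using hd.nonempty)
  obtain ⟨V₁, hV₁, hηV₁, hV₁le⟩ := exists_isAffineOpen_mem_and_subset hηU₀
  haveI : IsAffine (V₁ : Scheme.{v}) := hV₁
  haveI : Nonempty ↥(V₁ : Scheme.{v}) := ⟨⟨_, hηV₁⟩⟩
  haveI : IrreducibleSpace ↥(V₁ : Scheme.{v}) :=
    { isPreirreducible_univ := by
        have h := (IrreducibleSpace.isIrreducible_univ S').isPreirreducible.preimage V₁.ι.isOpenEmbedding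
        rwa [Set.preimage_univ] at h
      toNonempty := inferInstance }
  let f₁ := f' ∣_ V₁
  haveI : LocallyOfFiniteType f₁ := IsZariskiLocalAtTarget.restrict ‹_› _
  haveI : QuasiCompact f₁ := IsZariskiLocalAtTarget.restrict ‹_› _
  haveI : LocallyOfFinitePresentation f₁ := by
    have h := IsZariskiLocalAtTarget.restrict hlfp (U₀.ι ⁻¹ᵁ V₁)
    refine (MorphismProperty.arrow_mk_iso_iff @LocallyOfFinitePresentation
      ((morphismRestrictRestrict f' U₀ (U₀.ι ⁻¹ᵁ V₁)) ≪≫ morphismRestrictEq f' ?_)).1 h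
    rw [Scheme.Hom.image_preimage_eq_opensRange_inf, Scheme.Opens.opensRange_ι]
    exact inf_eq_right.2 hV₁le
  obtain ⟨V, hV, hηV, hVqs⟩ := exists_open_qs f₁
  obtain ⟨V₂, hV₂, hηV₂, hV₂le⟩ := exists_isAffineOpen_mem_and_subset
    (show genericPoint ↥(V₁ : Scheme.{v}) ∈ (⟨V, hV⟩ : (V₁ : Scheme.{v}).Opens) from hηV)
  haveI : IsAffine (V₂ : Scheme.{v}) := hV₂
  let f₂ := f₁ ∣_ V₂
  haveI : LocallyOfFinitePresentation f₂ := IsZariskiLocalAtTarget.restrict ‹_› _
  haveI : QuasiCompact f₂ := IsZariskiLocalAtTarget.restrict ‹_› _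
  haveI : QuasiSeparatedSpace (f₁ ⁻¹ᵁ V₂ : Scheme.{v}) := hVqs V₂ hV₂ hV₂le
  haveI : QuasiSeparated f₂ := QuasiSeparated.of_quasiSeparatedSpace f₂
  let g₂ : ↥(V₂ : Scheme.{v}) → S := fun s => i (V₁.ι (V₂.ι s))
  have hcnt : ∀ s t : ↥(V₂ : Scheme.{v}), SameCounts f₂ s t ↔ SameCounts f (g₂ s) (g₂ t) := fun s t => by
    rw [sameCounts_pullback (isPullback_morphismRestrict f₁ V₂).flip,
      sameCounts_pullback (isPullback_morphismRestrict f' V₁).flip,
      sameCounts_pullback (IsPullback.of_hasPullback f i)]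
  let η₂ : ↥(V₂ : Scheme.{v}) := ⟨genericPoint ↥(V₁ : Scheme.{v}), hηV₂⟩
  have hη₁ : V₁.ι (genericPoint ↥(V₁ : Scheme.{v})) = genericPoint S' := genericPoint_eq_of_isOpenImmersion V₁.ι
  have hη₂ : g₂ η₂ = genericPoint S := by
    show i (V₁.ι (genericPoint ↥(V₁ : Scheme.{v}))) = _
    rw [hη₁, ← hgen, hη']
  let φ : ℕ∞ → ℕ∞ → Prop := fun a b => a = MoreMor.nGeomIrredComp f₂ η₂ ∧ b = MoreMor.nGeomConnComp f₂ η₂
  obtain ⟨U, hUle, hU, hηU⟩ := mem_nhds_iff.1 (FibDim.mem_nhds_of_generizations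
    (isLocallyConstructible_level φ f₂) (y := η₂) fun t ht => by
      have e1 : t = η₂ := (V₂.ι.isOpenEmbedding.injective
        ((ht.map V₂.ι.continuous).antisymm ((genericPoint_spec _).specializes (Set.mem_univ _))).eq)
      rw [e1]
      exact ⟨rfl, rfl⟩)
  refine ⟨g₂ '' U, ?_, ⟨η₂, hηU, hη₂⟩, ?_⟩
  · have : g₂ = e ∘ (fun s => V₁.ι (V₂.ι s)) := rfl
    rw [this, Set.image_comp]
    exact e.isOpenMap _ ((V₁.ι.isOpenEmbedding.comp V₂.ι.isOpenEmbedding).isOpenMap _ hU)
  · rintro _ ⟨s, hs, rfl⟩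
    rw [← hη₂]
    exact (hcnt s η₂).1 (hUle hs)

end Groth.Agent.GeomComp5
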