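import Mathlib.Topology.Irreducible
import Mathlib.Topology.Connected.Clopen
import Mathlib.SetTheory.Cardinal.ENat
import Mathlib.Data.Set.Card

/-!
# Components of a space covered by finitely many closed irreducible sets
-/

set_option autoImplicit false

open Topology

namespace Groth.Agent.GeomComp5

universe u

variable {T : Type u} [TopologicalSpace T] {ι : Type*} [Finite ι] (Z : ι → Set T)

include Z in
theorem range_eq_irreducibleComponents (hc : ∀ i, IsClosed (Z i)) (hirr : ∀ i, IsIrreducible (Z i))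
    (hcov : ⋃ i, Z i = Set.univ) (hne : ∀ i j, Z i ⊆ Z j → i = j) :
    Set.range Z = irreducibleComponents T := by
  classical
  haveI := Fintype.ofFinite ι
  have hsub : ∀ Y : Set T, IsIrreducible Y → ∃ i, Y ⊆ Z i := by
    intro Y hY
    obtain ⟨z, hz, hzY⟩ := (isIrreducible_iff_sUnion_isClosed.1 hY) (Finset.univ.image Z)
      (fun z hz => by
        obtain ⟨i, -, rfl⟩ := Finset.mem_image.1 hz
        exact hc i)
      (by rw [Finset.coe_image, Finset.coe_univ, Set.image_univ, Set.sUnion_range, hcov]; exact Set.subset_univ _)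
    obtain ⟨i, -, rfl⟩ := Finset.mem_image.1 hz
    exact ⟨i, hzY⟩
  refine subset_antisymm ?_ fun Y hY => ?_
  · rintro _ ⟨i, rfl⟩
    refine ⟨hirr i, fun Y hY hiY => ?_⟩
    obtain ⟨j, hj⟩ := hsub Y hY
    exact (hne i j (hiY.trans hj)) ▸ hj
  · obtain ⟨j, hj⟩ := hsub Y hY.1
    exact ⟨j, subset_antisymm (hY.2 (hirr j) hj) hj⟩

theorem encard_irreducibleComponents (hc : ∀ i, IsClosed (Z i)) (hirr : ∀ i, IsIrreducible (Z i))
    (hcov : ⋃ i, Z i = Set.univ) (hne : ∀ i j, Z i ⊆ Z j → i = j) :
    (irreducibleComponents T).encard = ENat.card ι := by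
  rw [← range_eq_irreducibleComponents Z hc hirr hcov hne, ← Set.image_univ,
    Function.Injective.encard_image (fun i j h => hne i j h.le), Set.encard_univ]

/-- Two indices are linked when the sets meet. -/
def Meet (i j : ι) : Prop := (Z i ∩ Z j).Nonempty

theorem card_connectedComponents (hc : ∀ i, IsClosed (Z i)) (hirr : ∀ i, IsIrreducible (Z i))
    (hcov : ⋃ i, Z i = Set.univ) :
    ENat.card (ConnectedComponents T) = ENat.card (Quot (Meet Z)) := by
  classical
  choose p hp using fun i => (hirr i).nonempty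
  have hmk : ∀ i, ∀ x ∈ Z i, ConnectedComponents.mk x = ConnectedComponents.mk (p i) := fun i x hx =>
    ConnectedComponents.coe_eq_coe'.2
      ((hirr i).isConnected.isPreconnected.subset_connectedComponent (hp i) hx)
  let φ : Quot (Meet Z) → ConnectedComponents T := Quot.lift (fun i => ConnectedComponents.mk (p i))
    (by rintro i j ⟨x, hxi, hxj⟩; exact (hmk i x hxi).symm.trans (hmk j x hxj))
  refine (ENat.card_congr (Equiv.ofBijective φ ⟨?_, ?_⟩)).symm
  · rintro ⟨i⟩ ⟨j⟩ (h : ConnectedComponents.mk (p i) = ConnectedComponents.mk (p j))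
    let c : Quot (Meet Z) := Quot.mk _ i
    let U : Set T := ⋃ k ∈ {k | Quot.mk (Meet Z) k = c}, Z k
    let V : Set T := ⋃ k ∈ {k | Quot.mk (Meet Z) k ≠ c}, Z k
    have hUV : Uᶜ = V := by
      ext x
      obtain ⟨k, hk⟩ := Set.mem_iUnion.1 (hcov.ge (Set.mem_univ x))
      simp only [U, V, Set.mem_compl_iff, Set.mem_iUnion, Set.mem_setOf_eq, exists_prop, not_exists, not_and]
      refine ⟨fun hx => ⟨k, fun e => hx k e hk, hk⟩, ?_⟩
      rintro ⟨l, hl, hxl⟩ m hm hxm
      exact hl ((Quot.sound (⟨x, hxl, hxm⟩ : Meet Z l m)).trans hm)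
    have hU : IsClopen U := by
      refine ⟨(Set.toFinite _).isClosed_biUnion fun k _ => hc k, ?_⟩
      rw [← isClosed_compl_iff, hUV]
      exact (Set.toFinite _).isClosed_biUnion fun k _ => hc k
    have hi : p i ∈ U := Set.mem_biUnion (show i ∈ {k | Quot.mk (Meet Z) k = c} from rfl) (hp i)
    have hj : p j ∈ U := hU.connectedComponent_subset hi (ConnectedComponents.coe_eq_coe'.1 h.symm)
    obtain ⟨k, hk, hjk⟩ := Set.mem_iUnion₂.1 hj
    exact hk.symm.trans (Quot.sound (⟨p j, hjk, hp j⟩ : Meet Z k j))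
  · intro x
    obtain ⟨x, rfl⟩ := ConnectedComponents.surjective_coe x
    obtain ⟨k, hk⟩ := Set.mem_iUnion.1 (hcov.ge (Set.mem_univ x))
    exact ⟨Quot.mk _ k, (hmk k x hk).symm⟩

end Groth.Agent.GeomComp5
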