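import Groth.Agent.GeomComp5.Generic
import Groth.Agent.ConsPropLib.Loci

/-!
# The numbers of geometric components are constructible (EGA IV 9.7.8)
-/

set_option autoImplicit false
set_option linter.style.haveILetI false
set_option backward.isDefEq.respectTransparency false
set_option backward.isDefEq.respectTransparency.types false

open CategoryTheory CategoryTheory.Limits AlgebraicGeometry Topology

namespace Groth.Agent.GeomComp5

universe u

variable {X S : Scheme.{u}}

/-- The two numbers agree at two points. -/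
def SameCounts (f : X ⟶ S) (s t : S) : Prop :=
  MoreMor.nGeomIrredComp f s = MoreMor.nGeomIrredComp f t ∧ MoreMor.nGeomConnComp f s = MoreMor.nGeomConnComp f t

theorem sameCounts_pullback {X' S' : Scheme.{u}} {f : X ⟶ S} {f' : X' ⟶ S'} {p : X' ⟶ X} {g : S' ⟶ S}
    (sq : IsPullback p f' f g) (s t : S') : SameCounts f' s t ↔ SameCounts f (g s) (g t) := by
  rw [SameCounts, SameCounts, S1334.result f f' p g sq s, S1334.result f f' p g sq t,
    S1335.result f f' p g sq s, S1335.result f f' p g sq t]

theorem exists_nhd_of_mem {T : Scheme.{u}} [IrreducibleSpace T] {E : Set T} (hE : IsLocallyConstructible E)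
    (h : genericPoint T ∈ E) : ∃ U : Set T, IsOpen U ∧ genericPoint T ∈ U ∧ U ⊆ E := by
  obtain ⟨U, hUE, hU, hη⟩ := mem_nhds_iff.1 (FibDim.mem_nhds_of_generizations hE
    (y := genericPoint T) fun t ht => by
      rwa [(ht.antisymm ((genericPoint_spec T).specializes (Set.mem_univ _))).eq])
  exact ⟨U, hU, hη, hUE⟩

theorem near_generic_spec {R : Type u} [CommRing R] [IsDomain R] [IsNoetherianRing R]
    (f : X ⟶ Spec (CommRingCat.of R)) [LocallyOfFiniteType f] [QuasiCompact f] :
    ∃ U : Set (Spec (CommRingCat.of R)), IsOpen U ∧ genericPoint (Spec (CommRingCat.of R)) ∈ U ∧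
      ∀ s ∈ U, SameCounts f s (genericPoint (Spec (CommRingCat.of R))) := by
  obtain ⟨S', g, _, _, _, _, _, hg, ι, _, W, L, _, _, g₁, hW, hg₁, hD⟩ := exists_dec f
  haveI : LocallyOfFiniteType (pullback.snd f g) :=
    MorphismProperty.pullback_snd (P := @LocallyOfFiniteType) _ _ inferInstance
  haveI : QuasiCompact (pullback.snd f g) := MorphismProperty.pullback_snd (P := @QuasiCompact) _ _ inferInstance
  obtain ⟨U', hU', hηU', hU'c⟩ := exists_nhd_counts (pullback.snd f g) W hW g₁ hg₁ hD
  haveI : LocallyOfFinitePresentation g := inferInstance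
  have hc : IsConstructible U' := (TopologicalSpace.NoetherianSpace.isCompact U').isConstructible hU'
  obtain ⟨U, hU, hηU, hUsub⟩ := exists_nhd_of_mem (g.isConstructible_image hc).isLocallyConstructible
    ⟨_, hηU', hg⟩
  refine ⟨U, hU, hηU, fun s hs => ?_⟩
  obtain ⟨s', hs', rfl⟩ := hUsub hs
  rw [← hg]
  exact (sameCounts_pullback (IsPullback.of_hasPullback f g) s' (genericPoint S')).1 (hU'c s' hs')

/-- Near the generic point of an integral Noetherian base the numbers of geometric components are constant. -/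
theorem near_generic [IsIntegral S] [IsLocallyNoetherian S] (f : X ⟶ S) [LocallyOfFiniteType f] [QuasiCompact f] :
    ∃ U : Set S, IsOpen U ∧ genericPoint S ∈ U ∧ ∀ s ∈ U, SameCounts f s (genericPoint S) := by
  obtain ⟨V, hV, hηV, -⟩ := exists_isAffineOpen_mem_and_subset (show genericPoint S ∈ (⊤ : S.Opens) from trivial)
  haveI : Nonempty V := ⟨⟨_, hηV⟩⟩
  haveI : IsNoetherianRing Γ(S, V) := IsLocallyNoetherian.component_noetherian ⟨V, hV⟩
  let j := hV.fromSpec
  let f' : pullback f j ⟶ Spec (CommRingCat.of Γ(S, V)) := pullback.snd f j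
  haveI : LocallyOfFiniteType f' := MorphismProperty.pullback_snd (P := @LocallyOfFiniteType) _ _ inferInstance
  haveI : QuasiCompact f' := MorphismProperty.pullback_snd (P := @QuasiCompact) _ _ inferInstance
  obtain ⟨U, hU, hηU, hUc⟩ := near_generic_spec f'
  haveI : Nonempty ↥(Spec Γ(S, V)) := ⟨genericPoint (Spec (CommRingCat.of Γ(S, V)))⟩
  have hj : j (genericPoint (Spec (CommRingCat.of Γ(S, V)))) = genericPoint S :=
    genericPoint_eq_of_isOpenImmersion j
  refine ⟨j.base '' U, j.isOpenEmbedding.isOpenMap U hU, ⟨_, hηU, hj⟩, ?_⟩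
  rintro _ ⟨s, hs, rfl⟩
  rw [← hj]
  exact (sameCounts_pullback (IsPullback.of_hasPullback f j) s _).1 (hUc s hs)

/-- A quantity determined by the two numbers. -/
def level (φ : ℕ∞ → ℕ∞ → Prop) (f : X ⟶ S) : Set S :=
  {s | φ (MoreMor.nGeomIrredComp f s) (MoreMor.nGeomConnComp f s)}

theorem level_preimage (φ : ℕ∞ → ℕ∞ → Prop) {X' S' : Scheme.{u}} {f : X ⟶ S} {f' : X' ⟶ S'} {p : X' ⟶ X}
    {g : S' ⟶ S} (sq : IsPullback p f' f g) : level φ f' = g ⁻¹' level φ f := by
  ext s
  show φ _ _ ↔ φ _ _
  rw [S1334.result f f' p g sq s, S1335.result f f' p g sq s]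

theorem isConstructible_level (φ : ℕ∞ → ℕ∞ → Prop) [IsNoetherian S] (f : X ⟶ S) [LocallyOfFiniteType f]
    [QuasiCompact f] : IsConstructible (level φ f) :=
  ConsPropLib.isConstructible_of_dichotomy _ fun T j _ _ _ => by
    haveI : LocallyOfFiniteType (pullback.snd f j) :=
      MorphismProperty.pullback_snd (P := @LocallyOfFiniteType) _ _ inferInstance
    haveI : QuasiCompact (pullback.snd f j) := MorphismProperty.pullback_snd (P := @QuasiCompact) _ _ inferInstance
    rw [← level_preimage φ (IsPullback.of_hasPullback f j)]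
    obtain ⟨U, hU, hηU, hUc⟩ := near_generic (pullback.snd f j)
    have hiff : ∀ s ∈ U, (s ∈ level φ (pullback.snd f j) ↔ genericPoint T ∈ level φ (pullback.snd f j)) := by
      intro s hs
      show φ _ _ ↔ φ _ _
      rw [(hUc s hs).1, (hUc s hs).2]
    by_cases h : genericPoint T ∈ level φ (pullback.snd f j)
    · exact Or.inl ⟨_, mem_interior.2 ⟨U, fun s hs => (hiff s hs).2 h, hU, hηU⟩⟩
    · exact Or.inr ⟨_, mem_interior.2 ⟨U, fun s hs h' => h ((hiff s hs).1 h'), hU, hηU⟩⟩

/-- The levels of the numbers of geometric components are locally constructible. -/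
theorem isLocallyConstructible_level (φ : ℕ∞ → ℕ∞ → Prop) (f : X ⟶ S) [LocallyOfFinitePresentation f]
    [QuasiCompact f] [QuasiSeparated f] : IsLocallyConstructible (level φ f) :=
  ConsPropLib.lc_of_affine fun V hV => by
    haveI : IsAffine V.toScheme := hV
    rw [← level_preimage φ (isPullback_morphismRestrict f V).flip]
    haveI : LocallyOfFinitePresentation (f ∣_ V) := IsZariskiLocalAtTarget.restrict ‹_› _
    haveI : QuasiCompact (f ∣_ V) := IsZariskiLocalAtTarget.restrict ‹_› _
    haveI : QuasiSeparated (f ∣_ V) := IsZariskiLocalAtTarget.restrict ‹_› _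
    obtain ⟨S₀, X₀, _, π, u₀, _, qX, _, hS₀, hA, hl, hqc, -, -, sq, -⟩ :=
      ConsPropLib.exists_model_pair (f ∣_ V) (f ∣_ V)
    haveI := hS₀; haveI := hA; haveI := hl; haveI := hqc
    rw [level_preimage φ sq]
    haveI : IsAffineHom π := isAffineHom_of_isAffine _
    exact π.isConstructible_preimage (isConstructible_level φ u₀)

end Groth.Agent.GeomComp5
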