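import Groth.Agent.GeomComp5.GeomPt

/-!
# A decomposition of a geometric fibre by open pieces
-/

set_option autoImplicit false
set_option linter.style.haveILetI false
set_option backward.isDefEq.respectTransparency false
set_option backward.isDefEq.respectTransparency.types false

open CategoryTheory CategoryTheory.Limits AlgebraicGeometry Topology

namespace Groth.Agent.GeomComp5

universe u

variable {X S : Scheme.{u}} (f : X ⟶ S) {ι : Type*} (W : ι → X.Opens)

/-- The closures of two pieces meet in the fibre. -/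
def Pattern (s : S) (i j : ι) : Prop :=
  (closure ((W i : Set X) ∩ f ⁻¹' {s}) ∩ closure ((W j : Set X) ∩ f ⁻¹' {s}) ∩ f ⁻¹' {s}).Nonempty

variable {L : Type u} [Field L] (g : Spec (CommRingCat.of L) ⟶ S)

/-- The pieces give the irreducible components of a geometric fibre. -/
structure Dec : Prop where
  irr : ∀ i, IsIrreducible (pullback.fst f g ⁻¹' (W i : Set X))
  cov : F f g ⊆ ⋃ i, closure ((W i : Set X) ∩ F f g)
  disj : ∀ i j, i ≠ j → (W i : Set X) ∩ closure ((W j : Set X) ∩ F f g) ∩ F f g = ∅

variable {f W g}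

theorem Dec.counts [Finite ι] [IsAlgClosed L] (h : Dec f W g) :
    MoreMor.nGeomIrredComp f (pt g) = ENat.card ι ∧
    MoreMor.nGeomConnComp f (pt g) = ENat.card (Quot (Pattern f W (pt g))) := by
  let Z : ι → Set ↥(pullback f g) := fun i => pullback.fst f g ⁻¹' closure ((W i : Set X) ∩ F f g)
  have hc : ∀ i, IsClosed (Z i) := fun i => isClosed_closure.preimage (pullback.fst f g).continuous
  have hirr : ∀ i, IsIrreducible (Z i) := fun i => by
    show IsIrreducible (pullback.fst f g ⁻¹' closure ((W i : Set X) ∩ F f g))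
    rw [preimage_closure]
    exact (h.irr i).closure
  have hcov : ⋃ i, Z i = Set.univ := Set.eq_univ_of_forall fun t => by
    obtain ⟨i, hi⟩ := Set.mem_iUnion.1 (h.cov ((range_proj f g).le ⟨t, rfl⟩))
    exact Set.mem_iUnion.2 ⟨i, hi⟩
  have hne : ∀ i j, Z i ⊆ Z j → i = j := fun i j hij => by
    by_contra hne
    obtain ⟨t, ht⟩ := (h.irr i).nonempty
    have hF : pullback.fst f g t ∈ F f g := (range_proj f g).le ⟨t, rfl⟩
    have hi : t ∈ Z i := subset_closure (⟨ht, hF⟩ : pullback.fst f g t ∈ (W i : Set X) ∩ F f g)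
    exact Set.eq_empty_iff_forall_notMem.1 (h.disj i j hne) _ ⟨⟨ht, hij hi⟩, hF⟩
  obtain ⟨e₁, e₂⟩ := nGeom_eq f g
  have hM : Meet Z = Pattern f W (pt g) := by
    ext i j
    exact preimage_nonempty_iff f g
      (closure ((W i : Set X) ∩ F f g) ∩ closure ((W j : Set X) ∩ F f g))
  rw [e₁, e₂, encard_irreducibleComponents Z hc hirr hcov hne, card_connectedComponents Z hc hirr hcov, hM]
  exact ⟨rfl, rfl⟩

end Groth.Agent.GeomComp5
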