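import Groth.Agent.GeomComp5.Spread
import Groth.Agent.GeomField.ConnComp

/-!
# A decomposition exists over a dominant base change
-/

set_option autoImplicit false
set_option linter.style.haveILetI false
set_option backward.isDefEq.respectTransparency false
set_option backward.isDefEq.respectTransparency.types false

open CategoryTheory CategoryTheory.Limits AlgebraicGeometry Topology

namespace Groth.Agent.GeomComp5

universe u

variable {R : Type u} [CommRing R] [IsDomain R] [IsNoetherianRing R] {X : Scheme.{u}}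
  (f : X ⟶ Spec (CommRingCat.of R)) [LocallyOfFiniteType f] [QuasiCompact f]

/-- A decomposition read through an isomorphism with the geometric fibre. -/
theorem dec_of_iso {X' S' : Scheme.{u}} (f' : X' ⟶ S') {L : Type u} [Field L] (g₁ : Spec (CommRingCat.of L) ⟶ S')
    {T : Scheme.{u}} (θ : T ≅ pullback f' g₁) {ι : Type*} (C : ι → Set T)
    (hC : ∀ i, IsIrreducible (C i)) (hCc : ∀ i, IsClosed (C i)) (hcov : ∀ t, ∃ i, t ∈ C i) (W : ι → X'.Opens)
    (hsub : ∀ i, θ.hom ⁻¹' (pullback.fst f' g₁ ⁻¹' (W i : Set X')) ⊆ C i)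
    (hne : ∀ i, (θ.hom ⁻¹' (pullback.fst f' g₁ ⁻¹' (W i : Set X'))).Nonempty)
    (hdisj : ∀ i j, i ≠ j → θ.hom ⁻¹' (pullback.fst f' g₁ ⁻¹' (W i : Set X')) ∩ C j = ∅) :
    Dec f' W g₁ := by
  let A : ι → Set T := fun i => θ.hom ⁻¹' (pullback.fst f' g₁ ⁻¹' (W i : Set X'))
  have hAo : ∀ i, IsOpen (A i) := fun i => ((W i).isOpen.preimage (Scheme.Hom.continuous _)).preimage (Scheme.Hom.continuous _)
  have hAcl : ∀ i, closure (A i) = C i := fun i => subset_antisymm ((hCc i).closure_subset_iff.2 (hsub i))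
    (fun t ht => mem_closure_iff.2 fun U hU htU => by
      obtain ⟨a, ha⟩ := hne i
      obtain ⟨w, -, hwU, hwA⟩ := (hC i).isPreirreducible U (A i) hU (hAo i) ⟨t, ht, htU⟩ ⟨a, hsub i ha, ha⟩
      exact ⟨w, hwU, hwA⟩)
  have hpre : ∀ i, θ.hom ⁻¹' closure (pullback.fst f' g₁ ⁻¹' (W i : Set X')) = C i := fun i => by
    rw [θ.hom.isOpenMap.preimage_closure_eq_closure_preimage θ.hom.continuous]
    exact hAcl i
  refine ⟨fun i => ?_, ?_, ?_⟩
  · rw [← Set.image_preimage_eq (f := θ.hom) (pullback.fst f' g₁ ⁻¹' (W i : Set X')) θ.hom.surjective]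
    exact IsIrreducible.image (⟨hne i, (hC i).isPreirreducible.open_subset (hAo i) (hsub i)⟩ : IsIrreducible (A i))
      _ θ.hom.continuous.continuousOn
  · intro y hy
    obtain ⟨t', rfl⟩ := exists_lift f' g₁ hy
    obtain ⟨t, rfl⟩ := θ.hom.surjective t'
    obtain ⟨i, hi⟩ := hcov t
    refine Set.mem_iUnion.2 ⟨i, ?_⟩
    show θ.hom t ∈ pullback.fst f' g₁ ⁻¹' closure ((W i : Set X') ∩ F f' g₁)
    rw [preimage_closure]
    exact (hpre i).ge hi
  · intro i j hij
    refine Set.eq_empty_iff_forall_notMem.2 fun y ⟨⟨hyi, hyj⟩, hy⟩ => ?_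
    obtain ⟨t', rfl⟩ := exists_lift f' g₁ hy
    obtain ⟨t, rfl⟩ := θ.hom.surjective t'
    refine Set.eq_empty_iff_forall_notMem.1 (hdisj i j hij) t ⟨hyi, (hpre j).le ?_⟩
    show θ.hom t ∈ closure (pullback.fst f' g₁ ⁻¹' (W j : Set X'))
    rw [← preimage_closure]
    exact hyj

/-- A field finite over the fraction field is the fraction field of an algebra of finite type. -/
theorem exists_fraction_model {K : Type u} [Field K] [Algebra R K] [Algebra (FractionRing R) K]
    [IsScalarTower R (FractionRing R) K] (F : IntermediateField (FractionRing R) K)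
    [FiniteDimensional (FractionRing R) F] :
    ∃ R' : Subalgebra R F, Algebra.FiniteType R R' ∧ IsFractionRing R' F := by
  classical
  let k := FractionRing R
  obtain ⟨s, hs⟩ := Module.Finite.fg_top (R := k) (M := F)
  let R' : Subalgebra R F := Algebra.adjoin R (s : Set F)
  haveI : Algebra.FiniteType R R' := (Subalgebra.fg_iff_finiteType _).1 (Subalgebra.fg_adjoin_finset s)
  refine ⟨R', inferInstance, ?_⟩
  show IsFractionRing R' F
  exact by
    haveI : FaithfulSMul R' F := (faithfulSMul_iff_algebraMap_injective _ _).2 Subtype.val_injective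
    refine IsFractionRing.of_field R' F fun x => ?_
    have hx : x ∈ Submodule.span k (s : Set F) := by rw [hs]; trivial
    obtain ⟨c, rfl⟩ := Submodule.mem_span_finset.1 hx |>.imp fun c h => h.2.symm
    obtain ⟨b, hb⟩ := IsLocalization.exist_integer_multiples (nonZeroDivisors R) s c
    choose d hd using hb
    have hb0 : algebraMap R F b ≠ 0 := by
      rw [Ne, map_eq_zero_iff _ (by
        rw [IsScalarTower.algebraMap_eq R k F, RingHom.coe_comp]
        exact (algebraMap k F).injective.comp (IsFractionRing.injective R k))]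
      exact nonZeroDivisors.coe_ne_zero b
    refine ⟨⟨∑ i : s, algebraMap R F (d i.1 i.2) * i.1, Subalgebra.sum_mem _ fun i _ =>
        R'.mul_mem (R'.algebraMap_mem _) (Algebra.subset_adjoin i.2)⟩, ⟨algebraMap R F b, R'.algebraMap_mem _⟩, ?_⟩
    show _ = (∑ i : s, algebraMap R F (d i.1 i.2) * i.1) / algebraMap R F b
    rw [eq_div_iff hb0, Finset.sum_mul, ← Finset.sum_attach s]
    refine Finset.sum_congr rfl fun i _ => ?_
    rw [IsScalarTower.algebraMap_apply R k F (d i.1 i.2), hd i.1 i.2]
    simp only [Algebra.smul_def, map_mul, ← IsScalarTower.algebraMap_apply]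
    ring

/-- The comparison of the generic fibre after a finite extension with a model. -/
theorem exists_comparison {S Pk PF PK S' : Scheme.{u}} {X : Scheme.{u}} (f : X ⟶ S) (a : Pk ⟶ S) (x : PF ⟶ Pk)
    (g : S' ⟶ S) (b : PF ⟶ S') [IsPreimmersion b] (hbg : x ≫ a = b ≫ g) (y : PK ⟶ PF) (xK : PK ⟶ Pk)
    (hy : xK = y ≫ x) (l : pullback (pullback.snd f a) xK ⟶ pullback (pullback.snd f a) x)
    (hl₁ : l ≫ pullback.fst (pullback.snd f a) x = pullback.fst (pullback.snd f a) xK)
    (hl₂ : l ≫ pullback.snd (pullback.snd f a) x = pullback.snd (pullback.snd f a) xK ≫ y) :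
    ∃ (β : pullback (pullback.snd f a) x ⟶ pullback f g)
      (θ : pullback (pullback.snd f a) xK ≅ pullback (pullback.snd f g) (y ≫ b)),
      IsPreimmersion β ∧ θ.hom ≫ pullback.fst (pullback.snd f g) (y ≫ b) = l ≫ β := by
  let β := (pullbackLeftPullbackSndIso f a x).hom ≫ (pullback.congrHom rfl hbg).hom ≫
    (pullbackLeftPullbackSndIso f g b).inv ≫ pullback.fst (pullback.snd f g) b
  haveI : IsPreimmersion (pullback.fst (pullback.snd f g) b) :=
    MorphismProperty.pullback_fst (P := @IsPreimmersion) _ _ inferInstance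
  have hK : xK ≫ a = (y ≫ b) ≫ g := by rw [hy, Category.assoc, Category.assoc, hbg]
  let θ := (pullbackLeftPullbackSndIso f a xK) ≪≫ (pullback.congrHom rfl hK) ≪≫
    (pullbackLeftPullbackSndIso f g (y ≫ b)).symm
  refine ⟨β, θ, inferInstance, ?_⟩
  apply pullback.hom_ext
  · simp [θ, β]
    rw [reassoc_of% hl₁]
  · simp [θ, β]
    rw [reassoc_of% hl₂]

/-- After a dominant base change of finite type the geometric generic fibre has a decomposition. -/
theorem exists_dec :
    ∃ (S' : Scheme.{u}) (g : S' ⟶ Spec (CommRingCat.of R)) (_ : IsIntegral S') (_ : IsNoetherian S')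
      (_ : IsAffine S') (_ : LocallyOfFiniteType g) (_ : QuasiCompact g),
      g (genericPoint S') = genericPoint (Spec (CommRingCat.of R)) ∧
      ∃ (ι : Type u) (_ : Finite ι) (W : ι → (pullback f g).Opens) (L : Type u) (_ : Field L) (_ : IsAlgClosed L)
        (g₁ : Spec (CommRingCat.of L) ⟶ S'),
        (∀ i, IsAffineOpen (W i)) ∧ pt g₁ = genericPoint S' ∧ Dec (pullback.snd f g) W g₁ := by
  classical
  let k := FractionRing R
  let K := AlgebraicClosure k
  let a : Spec (CommRingCat.of k) ⟶ Spec (CommRingCat.of R) := Spec.map (CommRingCat.ofHom (algebraMap R k))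
  let Y := pullback f a
  letI : Y.Over (Spec (CommRingCat.of k)) := ⟨pullback.snd f a⟩
  let T := Curv2.bc k Y K
  haveI : LocallyOfFiniteType (pullback.snd f a) :=
    MorphismProperty.pullback_snd (P := @LocallyOfFiniteType) _ _ inferInstance
  haveI : QuasiCompact (pullback.snd f a) := MorphismProperty.pullback_snd (P := @QuasiCompact) _ _ inferInstance
  haveI : LocallyOfFiniteType (Curv2.bcSnd k Y K) :=
    MorphismProperty.pullback_snd (P := @LocallyOfFiniteType) _ _ (inferInstanceAs (LocallyOfFiniteType (pullback.snd f a)))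
  haveI : QuasiCompact (Curv2.bcSnd k Y K) :=
    MorphismProperty.pullback_snd (P := @QuasiCompact) _ _ (inferInstanceAs (QuasiCompact (pullback.snd f a)))
  haveI : IsLocallyNoetherian T := LocallyOfFiniteType.isLocallyNoetherian (Curv2.bcSnd k Y K)
  haveI : CompactSpace T := QuasiCompact.compactSpace_of_compactSpace (Curv2.bcSnd k Y K)
  haveI : IsNoetherian T := {}
  -- the components and their exclusive opens
  let ι := ↥(irreducibleComponents (T : Type u))
  haveI : Finite ι := TopologicalSpace.NoetherianSpace.finite_irreducibleComponents.to_subtype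
  let Ω : ι → Set T := fun C => (⋃ D ∈ {D : ι | D ≠ C}, (D : Set T))ᶜ
  have hΩo : ∀ C, IsOpen (Ω C) := fun C =>
    ((Set.toFinite _).isClosed_biUnion fun D _ => isClosed_of_mem_irreducibleComponents _ D.2).isOpen_compl
  have hcovT : ∀ t : T, ∃ C : ι, t ∈ (C : Set T) := fun t =>
    ⟨⟨_, irreducibleComponent_mem_irreducibleComponents t⟩, mem_irreducibleComponent⟩
  have hΩsub : ∀ C, Ω C ⊆ (C : Set T) := fun C t ht => by
    obtain ⟨D, hD⟩ := hcovT t
    by_contra htC
    exact ht (Set.mem_biUnion (show D ∈ {D : ι | D ≠ C} from fun e => htC (e ▸ hD)) hD)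
  have hΩne : ∀ C : ι, ∃ t, t ∈ Ω C := fun C => by
    obtain ⟨η, hη, -⟩ := GeomField.maximal_of_component C.2
    refine ⟨η, fun h => ?_⟩
    obtain ⟨D, hD, hηD⟩ := Set.mem_iUnion₂.1 h
    have hsub : (C : Set T) ⊆ (D : Set T) := by
      rw [← hη.def]
      exact (isClosed_of_mem_irreducibleComponents _ D.2).closure_subset_iff.2 (Set.singleton_subset_iff.2 hηD)
    exact hD (Subtype.ext (subset_antisymm (C.2.2 D.2.1 hsub) hsub))
  choose z hz using hΩne
  choose F₀ hF₀ hdesc using fun C => GeomField.exists_open_descend (k := k) (X := Y) (hΩo C) (hz C)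
  haveI := Fintype.ofFinite ι
  let F : IntermediateField k K := Finset.univ.sup F₀
  haveI : FiniteDimensional k F :=
    Finset.sup_induction (p := fun E : IntermediateField k K => FiniteDimensional k E) inferInstance
      (fun a ha b hb => by have := ha; have := hb; infer_instance) (fun C _ => hF₀ C)
  choose V hVo hzV hVΩ using fun C => hdesc C F (Finset.le_sup (Finset.mem_univ C))
  -- a model of `F`
  obtain ⟨R', _, _⟩ := exists_fraction_model (R := R) F
  haveI : IsNoetherianRing R' := Algebra.FiniteType.isNoetherianRing R R'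
  let S' := Spec (CommRingCat.of R')
  let g : S' ⟶ Spec (CommRingCat.of R) := Spec.map (CommRingCat.ofHom (algebraMap R R'))
  let b : Spec (CommRingCat.of F) ⟶ S' := Spec.map (CommRingCat.ofHom (algebraMap R' F))
  haveI : IsPreimmersion b := IsPreimmersion.of_isLocalization (nonZeroDivisors R')
  let x : Spec (CommRingCat.of F) ⟶ Spec (CommRingCat.of k) := Spec.map (CommRingCat.ofHom (algebraMap k F))
  have hbg : x ≫ a = b ≫ g := by
    simp only [x, a, b, g, ← Spec.map_comp, ← CommRingCat.ofHom_comp, ← IsScalarTower.algebraMap_eq]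
  haveI : LocallyOfFiniteType g := by
    rw [HasRingHomProperty.Spec_iff (P := @LocallyOfFiniteType)]
    exact RingHom.finiteType_algebraMap.2 inferInstance
  let X' := pullback f g
  obtain ⟨β, θ, hβ, hθ⟩ := exists_comparison f a x g b hbg
    (Spec.map (CommRingCat.ofHom (algebraMap F K))) (Spec.map (CommRingCat.ofHom (algebraMap k K)))
    (by simp only [x, ← Spec.map_comp, ← CommRingCat.ofHom_comp, ← IsScalarTower.algebraMap_eq])
    (GeomField.lvl (X := Y) F) (GeomField.lvl_fst (X := Y) (k := k) (K := K) F)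
    (GeomField.lvl_snd (X := Y) (k := k) (K := K) F)
  let g₁ : Spec (CommRingCat.of K) ⟶ S' := Spec.map (CommRingCat.ofHom (algebraMap F K)) ≫ b
  -- the pieces
  have hW : ∀ C, ∃ W : X'.Opens, IsAffineOpen W ∧ β (GeomField.lvl (X := Y) F (z C)) ∈ W ∧
      β ⁻¹' (W : Set X') ⊆ V C := fun C => by
    obtain ⟨O, hO, hOV⟩ := β.isEmbedding.isInducing.isOpen_iff.1 (hVo C)
    obtain ⟨W, hW, hzW, hWO⟩ := exists_isAffineOpen_mem_and_subset
      (show β (GeomField.lvl (X := Y) F (z C)) ∈ (⟨O, hO⟩ : X'.Opens) from hOV.ge (hzV C))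
    exact ⟨W, hW, hzW, fun w hw => hOV.le (hWO hw)⟩
  choose W hWaff hzW hWV using hW
  let A : ι → Set T := fun C => GeomField.lvl (X := Y) F ⁻¹' (β ⁻¹' (W C : Set X'))
  have hAΩ : ∀ C, A C ⊆ Ω C := fun C t ht => hVΩ C (hWV C ht)
  have hApre : ∀ C, θ.hom ⁻¹' (pullback.fst (pullback.snd f g) g₁ ⁻¹' (W C : Set X')) = A C := fun C => by
    rw [← Set.preimage_comp, ← TopCat.coe_comp, ← Scheme.Hom.comp_base, hθ]
    rfl
  have hD : Dec (pullback.snd f g) W g₁ := dec_of_iso (pullback.snd f g) g₁ θ (fun C : ι => (C : Set T))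
    (fun C => C.2.1) (fun C => isClosed_of_mem_irreducibleComponents _ C.2) hcovT W
    (fun C => (hApre C).le.trans ((hAΩ C).trans (hΩsub C))) (fun C => ⟨z C, (hApre C).ge (hzW C)⟩)
    (fun C D hCD => by
      refine Set.eq_empty_iff_forall_notMem.2 fun t ht => ?_
      exact hAΩ C ((hApre C).le ht.1) (Set.mem_biUnion (s := {D : ι | D ≠ C}) (x := D) (fun h => hCD h.symm) ht.2))
  have hg₁ : pt g₁ = genericPoint S' := by
    rw [genericPoint_eq_bot_of_affine]
    apply PrimeSpectrum.ext
    show ((IsLocalRing.maximalIdeal K).comap (algebraMap F K)).comap (algebraMap R' F) = ⊥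
    rw [IsLocalRing.maximalIdeal_eq_bot, ← RingHom.ker_eq_comap_bot, (RingHom.injective_iff_ker_eq_bot _).1 (algebraMap F K).injective,
      ← RingHom.ker_eq_comap_bot, (RingHom.injective_iff_ker_eq_bot _).1 Subtype.val_injective]
  have hgη : g (genericPoint S') = genericPoint (Spec (CommRingCat.of R)) := by
    rw [genericPoint_eq_bot_of_affine, genericPoint_eq_bot_of_affine]
    apply PrimeSpectrum.ext
    show (⊥ : Ideal R').comap (algebraMap R R') = ⊥
    rw [← RingHom.ker_eq_comap_bot, ← RingHom.injective_iff_ker_eq_bot]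
    intro p q hpq
    have h := congrArg (Subtype.val : R' → F) hpq
    refine IsFractionRing.injective R k ((algebraMap k F).injective ?_)
    rw [← IsScalarTower.algebraMap_apply, ← IsScalarTower.algebraMap_apply]
    exact h
  refine ⟨S', g, inferInstance, inferInstance, inferInstance, inferInstance, inferInstance, hgη,
    ι, inferInstance, W, K, inferInstance, inferInstance, g₁, hWaff, hg₁, hD⟩

end Groth.Agent.GeomComp5
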