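import Groth.Agent.GeomComp5.Count
import Groth.Prelude.Def_MoreMor
import Groth.Agent.ConsPropLib.FibreTop
import Groth.Agent.S1334
import Groth.Agent.S1335

/-!
# The fibre over a geometric point
-/

set_option autoImplicit false
set_option linter.style.haveILetI false
set_option backward.isDefEq.respectTransparency false
set_option backward.isDefEq.respectTransparency.types false

open CategoryTheory CategoryTheory.Limits AlgebraicGeometry Topology

namespace Groth.Agent.GeomComp5

universe u

variable {X S : Scheme.{u}} (f : X ⟶ S) {L : Type u} [Field L] (g : Spec (CommRingCat.of L) ⟶ S)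

/-- The point of the base under a point with values in a field. -/
noncomputable def pt : S := g (IsLocalRing.closedPoint L)

theorem range_eq_pt : Set.range g = {pt g} := by
  refine Set.Subset.antisymm ?_ (Set.singleton_subset_iff.2 ⟨_, rfl⟩)
  rintro _ ⟨z, rfl⟩
  rw [Subsingleton.elim z (IsLocalRing.closedPoint L)]
  rfl

/-- The fibre of the base. -/
noncomputable def F : Set X := f ⁻¹' {pt g}

theorem range_proj : Set.range (pullback.fst f g) = F f g := by
  rw [Scheme.Pullback.range_fst, range_eq_pt]
  rfl

theorem exists_lift {x : X} (hx : x ∈ F f g) : ∃ t : ↥(pullback f g), pullback.fst f g t = x := by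
  show x ∈ Set.range (pullback.fst f g)
  rwa [range_proj]

theorem preimage_nonempty_iff (A : Set X) :
    (pullback.fst f g ⁻¹' A).Nonempty ↔ (A ∩ F f g).Nonempty := by
  refine ⟨fun ⟨t, ht⟩ => ⟨_, ht, (range_proj f g).le ⟨t, rfl⟩⟩, fun ⟨x, hxA, hxF⟩ => ?_⟩
  obtain ⟨t, rfl⟩ := exists_lift f g hxF
  exact ⟨t, hxA⟩

theorem exists_factor : ∃ (q : ↥(pullback f g) → ↥(f.fiber (pt g))), Continuous q ∧ IsOpenMap q ∧
    ∀ t, f.fiberι (pt g) (q t) = pullback.fst f g t := by
  obtain ⟨⟨s, φ⟩, hφ⟩ := (Scheme.SpecToEquivOfField L S).symm.surjective g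
  replace hφ : Spec.map φ ≫ S.fromSpecResidueField s = g := hφ
  have hs : pt g = s := by
    rw [pt, ← hφ, Scheme.Hom.comp_apply]
    exact Scheme.fromSpecResidueField_apply _ _
  rw [hs]
  subst hφ
  let e := pullbackLeftPullbackSndIso f (S.fromSpecResidueField s) (Spec.map φ)
  haveI : UniversallyOpen (Spec.map φ) := VarGeom.universallyOpen_of_field _
  let q : pullback f (Spec.map φ ≫ S.fromSpecResidueField s) ⟶ f.fiber s :=
    e.inv ≫ pullback.fst (f.fiberToSpecResidueField s) (Spec.map φ)
  refine ⟨q, q.continuous, q.isOpenMap, fun t => ?_⟩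
  rw [← Scheme.Hom.comp_apply]
  refine congrArg (fun m : pullback f (Spec.map φ ≫ S.fromSpecResidueField s) ⟶ X => m t) ?_
  rw [← cancel_epi e.hom, pullbackLeftPullbackSndIso_hom_fst]
  simp [q]
  rfl

theorem preimage_closure (A : Set X) :
    pullback.fst f g ⁻¹' closure (A ∩ F f g) = closure (pullback.fst f g ⁻¹' A) := by
  obtain ⟨q, hqc, hqo, hq⟩ := exists_factor f g
  have h : ∀ B : Set X, pullback.fst f g ⁻¹' B = q ⁻¹' (f.fiberι (pt g) ⁻¹' B) := fun B => by
    ext t
    simp only [Set.mem_preimage, hq]
  rw [h, h, ← hqo.preimage_closure_eq_closure_preimage hqc]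
  congr 1
  rw [(f.fiberι (pt g)).isEmbedding.isInducing.closure_eq_preimage_closure_image,
    Set.image_preimage_eq_inter_range, Scheme.Hom.range_fiberι]
  rfl

variable [IsAlgClosed L]

theorem nGeom_eq :
    MoreMor.nGeomIrredComp f (pt g) = (irreducibleComponents ↥(pullback f g)).encard ∧
    MoreMor.nGeomConnComp f (pt g) = ENat.card (_root_.ConnectedComponents ↥(pullback f g)) := by
  let P := pullback f g
  let h : P ⟶ Spec (CommRingCat.of L) := pullback.snd f g
  let z := IsLocalRing.closedPoint L
  rw [pt, ← S1334.result f h (pullback.fst f g) g (.of_hasPullback f g) z,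
    ← S1335.result f h (pullback.fst f g) g (.of_hasPullback f g) z]
  let Q := Spec (CommRingCat.of L)
  haveI : IsIso (Q.fromSpecResidueField z) := by
    haveI : Surjective (Q.fromSpecResidueField z) := ⟨fun w => ⟨Classical.arbitrary _, Subsingleton.elim _ _⟩⟩
    haveI : IsOpenImmersion (Q.fromSpecResidueField z) := by
      refine IsOpenImmersion.iff_isIso_stalkMap.mpr ⟨?_, fun w => ?_⟩
      · exact ⟨(Q.fromSpecResidueField z).isEmbedding, by rw [(Q.fromSpecResidueField z).surjective.range_eq]; exact isOpen_univ⟩
      · haveI : Epi ((Q.fromSpecResidueField z).stalkMap w) := ConcreteCategory.epi_of_surjective _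
          ((Q.fromSpecResidueField z).stalkMap_surjective w)
        have hf : IsField (Q.presheaf.stalk ((Q.fromSpecResidueField z) w)) := by
          haveI : Subsingleton Q := inferInstance
          rw [show (Q.fromSpecResidueField z) w = genericPoint Q from Subsingleton.elim _ _]
          exact Field.toIsField Q.functionField
        letI := hf.toField
        exact (ConcreteCategory.isIso_iff_bijective _).mpr
          ⟨RingHom.injective _, (Q.fromSpecResidueField z).stalkMap_surjective w⟩
    exact (isIso_iff_isOpenImmersion_and_surjective _).mpr ⟨inferInstance, inferInstance⟩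
  haveI : IsAlgClosed (Q.residueField z) := by
    obtain ⟨ρ, hρ⟩ := Spec.map_surjective (Q.fromSpecResidueField z)
    haveI : IsIso (Spec.map ρ) := hρ ▸ inferInstance
    haveI : IsIso (Scheme.Spec.map ρ.op) := ‹IsIso (Spec.map ρ)›
    haveI : IsIso ρ.op := isIso_of_reflects_iso ρ.op Scheme.Spec
    haveI : IsIso ρ := isIso_of_op ρ
    exact IsAlgClosed.of_ringEquiv L _ (asIso ρ).commRingCatIsoToRingEquiv
  let k := Q.residueField z
  haveI : IsSepClosed k := inferInstance
  haveI : IsIso (CommRingCat.ofHom (algebraMap k (SeparableClosure k))) :=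
    (ConcreteCategory.isIso_iff_bijective _).mpr
      ⟨RingHom.injective _, IsSepClosed.algebraMap_surjective k (SeparableClosure k)⟩
  let m : MoreMor.geomFiber h z ⟶ P :=
    pullback.fst (h.fiberToSpecResidueField z)
      (Spec.map (CommRingCat.ofHom (algebraMap k (SeparableClosure k)))) ≫ h.fiberι z
  haveI : IsIso (h.fiberι z) := inferInstanceAs (IsIso (pullback.fst h (Q.fromSpecResidueField z)))
  haveI : IsIso m := inferInstance
  let e : ↥(MoreMor.geomFiber h z) ≃ₜ ↥P := m.homeomorph
  refine ⟨?_, ?_⟩
  · show (irreducibleComponents ↥(MoreMor.geomFiber h z)).encard = _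
    rw [← ENat.card_coe_set_eq, ← ENat.card_coe_set_eq]
    exact (ENat.card_congr (irreducibleComponentsEquivOfIsPreirreducibleFiber e e.continuous e.isOpenMap
      (fun y => (Set.subsingleton_singleton.preimage e.injective).isPreirreducible) e.surjective).toEquiv).symm
  · exact ENat.card_congr (e.isQuotientMap.isCoinducing.connectedComponentsHomeomorph
      (fun y => by
        obtain ⟨w, rfl⟩ := e.surjective y
        rw [← Set.image_singleton, e.injective.preimage_image]
        exact isConnected_singleton)).toEquiv

end Groth.Agent.GeomComp5
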