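import Groth.Agent.GeomComp5.NonNoeth
import Groth.Agent.Stein5.OneComp
import Groth.Agent.SecComp5.Fibre
import Groth.Agent.FlatMisc.ComponentsNear
import Groth.Agent.S1324

/-!
# The components of a section near a generic point, and their constructibility
-/

set_option autoImplicit false
set_option linter.style.haveILetI false
set_option backward.isDefEq.respectTransparency false
set_option backward.isDefEq.respectTransparency.types false

open CategoryTheory CategoryTheory.Limits AlgebraicGeometry Topology TopologicalSpace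

namespace Groth.Agent.GeomComp5

universe u

variable {X S : Scheme.{u}}

theorem preconnected_fibre_of_counts (f : X ⟶ S) {s : S} (h : MoreMor.nGeomConnComp f s = 1) :
    _root_.IsPreconnected (f ⁻¹' {s}) := by
  haveI := Stein5.geometricallyConnected_fibre_of_one f s h
  haveI : ConnectedSpace (f.fiber s) :=
    GeometricallyConnected.connectedSpace (f.fiberToSpecResidueField s) fun _ _ => isOpen_discrete _
  rw [← f.range_fiberι, ← Set.image_univ]
  exact isPreconnected_univ.image _ (f.fiberι s).continuous.continuousOn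

/-- Near the generic point the components of a section form a clopen set. -/
theorem exists_clopen_sectionComponents [IrreducibleSpace S] (f : X ⟶ S) [LocallyOfFiniteType f] [QuasiCompact f]
    (e : S ⟶ X) (he : e ≫ f = 𝟙 S) :
    ∃ N : Set S, IsOpen N ∧ genericPoint S ∈ N ∧
      IsClopen (Subtype.val ⁻¹' MoreMor.sectionComponents f e : Set ↑(f ⁻¹' N)) := by
  let η := genericPoint S
  let q := f.fiberToSpecResidueField η
  haveI : LocallyOfFiniteType q := MorphismProperty.pullback_snd (P := @LocallyOfFiniteType) _ _ inferInstance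
  haveI : QuasiCompact q := MorphismProperty.pullback_snd (P := @QuasiCompact) _ _ inferInstance
  haveI : IsLocallyNoetherian (f.fiber η) := LocallyOfFiniteType.isLocallyNoetherian q
  haveI := SecComp5.locallyConnectedSpace (f.fiber η)
  let p₀ := SecComp5.fibreSection f e he η (IsLocalRing.closedPoint (S.residueField η))
  have hp₀ : f.fiberι η p₀ = e η := by
    rw [← Scheme.Hom.comp_apply, show SecComp5.fibreSection f e he η ≫ f.fiberι η = S.fromSpecResidueField η ≫ e from
      pullback.lift_fst _ _ _, Scheme.Hom.comp_apply]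
    exact congrArg e.base (Scheme.fromSpecResidueField_apply _ _)
  let C : Fin 2 → Set ↑(f.fiber η) := ![connectedComponent p₀, (connectedComponent p₀)ᶜ]
  have hcov : ⋃ i, C i = Set.univ := Set.eq_univ_of_forall fun z => by
    by_cases hz : z ∈ connectedComponent p₀
    · exact Set.mem_iUnion.2 ⟨0, hz⟩
    · exact Set.mem_iUnion.2 ⟨1, hz⟩
  obtain ⟨V₁, hV₁, hV₁c⟩ := FlatMisc.GenerizeNear.exists_open_covered f C hcov
  let Z : Fin 2 → Set X := fun i => closure (f.fiberι η '' C i)
  have hclosed : ∀ i, IsClosed (C i) := by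
    intro i
    fin_cases i
    · exact isClosed_connectedComponent
    · exact isOpen_connectedComponent.isClosed_compl
  have htrace : ∀ i, f.fiberι η ⁻¹' Z i = C i := fun i => by
    show f.fiberι η ⁻¹' closure (f.fiberι η '' C i) = C i
    rw [← (f.fiberι η).isEmbedding.isInducing.closure_eq_preimage_closure_image, (hclosed i).closure_eq]
  obtain ⟨V₂, hV₂, hV₂d⟩ := FlatMisc.ComponentsNear.exists_open_disjoint f
    ((isClosed_closure : IsClosed (Z 0)).inter (isClosed_closure : IsClosed (Z 1))) (fun x hx e' => by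
      obtain ⟨z, rfl⟩ : x ∈ Set.range (f.fiberι η) := by rw [f.range_fiberι]; exact e'
      have h0 : z ∈ C 0 := (htrace 0).le hx.1
      exact (show z ∈ (connectedComponent p₀)ᶜ from (htrace 1).le hx.2) h0)
  -- the open piece containing the section
  let N₁ : S.Opens := V₁ ⊓ V₂
  have hηN₁ : η ∈ N₁ := ⟨((genericPoint_spec S).mem_open_set_iff V₁.isOpen).2 (by simpa using hV₁),
    ((genericPoint_spec S).mem_open_set_iff V₂.isOpen).2 (by simpa using hV₂)⟩
  have hunion : ∀ x, f x ∈ N₁ → x ∈ Z 0 ∨ x ∈ Z 1 := fun x hx => by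
    obtain ⟨w, hw⟩ : x ∈ Set.range (f.fiberι (f x)) := by rw [f.range_fiberι]; rfl
    obtain ⟨i, hi⟩ := Set.mem_iUnion.1 ((hV₁c (f x) hx.1).ge (Set.mem_univ w))
    rw [Set.mem_preimage, hw] at hi
    fin_cases i
    · exact Or.inl hi
    · exact Or.inr hi
  have hdisj : ∀ x, f x ∈ N₁ → x ∈ Z 0 → x ∉ Z 1 := fun x hx h0 h1 => hV₂d x ⟨h0, h1⟩ hx.2
  let O : (f ⁻¹ᵁ N₁ : Scheme.{u}).Opens :=
    ⟨(f ⁻¹ᵁ N₁).ι ⁻¹' (Z 1)ᶜ, isClosed_closure.isOpen_compl.preimage (Scheme.Hom.continuous _)⟩
  have hO : (O : Set ↥(f ⁻¹ᵁ N₁ : Scheme.{u})) = (f ⁻¹ᵁ N₁).ι ⁻¹' Z 0 := by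
    ext x
    exact ⟨fun h => (hunion _ x.2).resolve_right h, fun h => hdisj _ x.2 h⟩
  haveI : IsClosedImmersion O.ι := IsClosedImmersion.of_isPreimmersion O.ι (by
    rw [Scheme.Opens.range_ι, hO]
    exact isClosed_closure.preimage (Scheme.Hom.continuous _))
  haveI : LocallyOfFiniteType (f ∣_ N₁) := IsZariskiLocalAtTarget.restrict ‹_› _
  haveI : QuasiCompact (f ∣_ N₁) := IsZariskiLocalAtTarget.restrict ‹_› _
  let h : (O : Scheme.{u}) ⟶ (N₁ : Scheme.{u}) := O.ι ≫ (f ∣_ N₁)
  haveI : Nonempty ↥(N₁ : Scheme.{u}) := ⟨⟨η, hηN₁⟩⟩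
  haveI : IrreducibleSpace ↥(N₁ : Scheme.{u}) :=
    { isPreirreducible_univ := by
        have h := (IrreducibleSpace.isIrreducible_univ S).isPreirreducible.preimage N₁.ι.isOpenEmbedding
        rwa [Set.preimage_univ] at h
      toNonempty := inferInstance }
  have hη' : genericPoint ↥(N₁ : Scheme.{u}) = ⟨η, hηN₁⟩ :=
    N₁.ι.isOpenEmbedding.injective ((genericPoint_eq_of_isOpenImmersion N₁.ι).trans rfl)
  have hesec : ∀ t : S, e t ∈ Z 0 := fun t => by
    have h1 : e η ⤳ e t := ((genericPoint_spec S).specializes (Set.mem_univ t)).map e.continuous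
    exact h1.mem_closed isClosed_closure (subset_closure ⟨p₀, mem_connectedComponent, hp₀⟩)
  -- the piece has connected fibres near the generic point
  have hmemO : ∀ (t : ↥(N₁ : Scheme.{u})) (x : X), f x = t.1 → x ∈ Z 0 →
      ∃ y : (O : Scheme.{u}), (f ⁻¹ᵁ N₁).ι (O.ι y) = x ∧ h y = t := fun t x hx hx0 => by
    have hxN : x ∈ f ⁻¹ᵁ N₁ := by show f x ∈ N₁; rw [hx]; exact t.2
    have hxO : (⟨x, hxN⟩ : (f ⁻¹ᵁ N₁ : Scheme.{u})) ∈ O := hO.ge hx0
    exact ⟨⟨⟨x, hxN⟩, hxO⟩, rfl, Subtype.ext ((morphismRestrict_base_coe f N₁ ⟨x, hxN⟩).trans hx)⟩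
  have hproj : ∀ y : (O : Scheme.{u}), f ((f ⁻¹ᵁ N₁).ι (O.ι y)) = (h y).1 := fun y =>
    (morphismRestrict_base_coe f N₁ (O.ι y)).symm
  have hgen1 : MoreMor.nGeomConnComp h (genericPoint ↥(N₁ : Scheme.{u})) = 1 := by
    let t₀ := genericPoint ↥(N₁ : Scheme.{u})
    have ht₀ : t₀.1 = η := by show (genericPoint ↥(N₁ : Scheme.{u})).1 = η; rw [hη']
    haveI : ConnectedSpace (h.fiber t₀) := by
      let m : h.fiber t₀ → X := fun y => (f ⁻¹ᵁ N₁).ι (O.ι (h.fiberι t₀ y))
      have hm : Topology.IsEmbedding m :=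
        ((f ⁻¹ᵁ N₁).ι.isEmbedding.comp (O.ι.isEmbedding.comp (h.fiberι t₀).isEmbedding))
      have hrange : m '' Set.univ = f.fiberι η '' C 0 := by
        ext x
        constructor
        · rintro ⟨y, -, rfl⟩
          have hy0 : m y ∈ Z 0 := hO.le (h.fiberι t₀ y).2
          have hy : h (h.fiberι t₀ y) = t₀ := (h.range_fiberι t₀).le ⟨y, rfl⟩
          obtain ⟨z, hz⟩ : m y ∈ Set.range (f.fiberι η) := by
            rw [f.range_fiberι]
            show f (m y) = η
            rw [hproj, hy, ht₀]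
          exact ⟨z, (htrace 0).le (show f.fiberι η z ∈ Z 0 by rw [hz]; exact hy0), hz⟩
        · rintro ⟨z, hz, rfl⟩
          obtain ⟨y, hyx, hyt⟩ := hmemO t₀ (f.fiberι η z)
            (((f.range_fiberι η).le ⟨z, rfl⟩).trans ht₀.symm) ((htrace 0).ge hz)
          obtain ⟨w, hw⟩ : y ∈ Set.range (h.fiberι t₀) := by rw [h.range_fiberι]; exact hyt
          exact ⟨w, trivial, by show (f ⁻¹ᵁ N₁).ι (O.ι (h.fiberι t₀ w)) = _; rw [hw, hyx]⟩
      have hconn : _root_.IsConnected (f.fiberι η '' C 0) :=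
        (isConnected_connectedComponent (x := p₀)).image _ (f.fiberι η).continuous.continuousOn
      rw [← hrange] at hconn
      exact connectedSpace_iff_univ.2 ⟨by
        obtain ⟨-, w, -, -⟩ := hconn.nonempty
        exact ⟨w, trivial⟩, hm.isInducing.isPreconnected_image.1 hconn.isPreconnected⟩
    -- the section gives a rational point
    let σ : Spec (N₁.toScheme.residueField t₀) ⟶ X := (N₁.toScheme.fromSpecResidueField t₀ ≫ N₁.ι) ≫ e
    have hσr : Set.range σ ⊆ Set.range (f ⁻¹ᵁ N₁).ι := by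
      rw [Scheme.Opens.range_ι]
      rintro _ ⟨w, rfl⟩
      show f (e _) ∈ N₁
      rw [SecComp5.apply_section f e he]
      exact ((N₁.toScheme.fromSpecResidueField t₀) w).2
    let σ₁ := IsOpenImmersion.lift (f ⁻¹ᵁ N₁).ι σ hσr
    have hσ₁ : σ₁ ≫ (f ⁻¹ᵁ N₁).ι = σ := IsOpenImmersion.lift_fac _ _ _
    have hσO : Set.range σ₁ ⊆ Set.range O.ι := by
      rw [Scheme.Opens.range_ι]
      rintro _ ⟨w, rfl⟩
      refine hO.ge ?_
      show ((σ₁ ≫ (f ⁻¹ᵁ N₁).ι) w) ∈ Z 0
      rw [hσ₁]
      exact hesec _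
    let σ₂ := IsOpenImmersion.lift O.ι σ₁ hσO
    have hσ₂ : σ₂ ≫ h = N₁.toScheme.fromSpecResidueField t₀ := by
      rw [← cancel_mono N₁.ι]
      simp only [h, Category.assoc, σ₂]
      rw [IsOpenImmersion.lift_fac_assoc, morphismRestrict_ι, reassoc_of% hσ₁]
      simp only [σ, Category.assoc, he, Category.comp_id]
    let σ₃ : Spec (N₁.toScheme.residueField t₀) ⟶ h.fiber t₀ :=
      pullback.lift σ₂ (𝟙 _) (by rw [hσ₂, Category.id_comp])
    haveI : GeometricallyConnected (σ₃ ≫ h.fiberToSpecResidueField t₀) := by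
      rw [show σ₃ ≫ h.fiberToSpecResidueField t₀ = 𝟙 _ from pullback.lift_snd _ _ _]
      refine ⟨geometrically_iff_of_isClosedUnderIsomorphisms.mpr fun L _ x => ?_⟩
      rw [(asIso (pullback.snd (𝟙 (Spec (N₁.toScheme.residueField t₀))) x)).hom.homeomorph.connectedSpace_iff]
      exact { toPreconnectedSpace := inferInstance, toNonempty := ⟨IsLocalRing.closedPoint L⟩ }
    haveI : Nonempty ↥(Spec (N₁.toScheme.residueField t₀)) :=
      ⟨IsLocalRing.closedPoint (N₁.toScheme.residueField t₀)⟩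
    haveI := S2502.result (k := N₁.toScheme.residueField t₀) σ₃ (h.fiberToSpecResidueField t₀)
    exact Stein5.one_of_geometricallyConnected h t₀
  obtain ⟨U, hU, hηU, hUc⟩ := near_generic_irreducible h
  refine ⟨N₁.ι.base '' U, N₁.ι.isOpenEmbedding.isOpenMap U hU,
    ⟨_, hηU, genericPoint_eq_of_isOpenImmersion N₁.ι⟩, ?_⟩
  have key : ∀ x : X, f x ∈ N₁.ι.base '' U → (x ∈ MoreMor.sectionComponents f e ↔ x ∈ Z 0) := by
    rintro x ⟨t, ht, htx⟩
    replace htx : t.1 = f x := htx
    have hxN : f x ∈ N₁ := by rw [← htx]; exact t.2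
    constructor
    · intro hx
      by_contra hx0
      obtain ⟨w, hwC, hw0, hw1⟩ := isPreconnected_connectedComponentIn (F := f ⁻¹' {f x}) (x := e (f x))
        (Z 1)ᶜ (Z 0)ᶜ isClosed_closure.isOpen_compl isClosed_closure.isOpen_compl
        (fun w hw => by
          by_cases h0 : w ∈ Z 0
          · refine Or.inl (hdisj w ?_ h0)
            rw [show f w = f x from connectedComponentIn_subset (f ⁻¹' {f x}) (e (f x)) hw]
            exact hxN
          · exact Or.inr h0)
        ⟨e (f x), mem_connectedComponentIn (SecComp5.apply_section f e he _), hdisj _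
          (by rw [SecComp5.apply_section f e he]; exact hxN) (hesec _)⟩
        ⟨x, hx, hx0⟩
      have hwN : f w ∈ N₁ := by
        rw [show f w = f x from connectedComponentIn_subset (f ⁻¹' {f x}) (e (f x)) hwC]
        exact hxN
      exact hw1 ((hunion w hwN).resolve_right hw0)
    · intro hx0
      obtain ⟨y, hyx, hyt⟩ := hmemO t x htx.symm hx0
      have hsec : f (e (f x)) = t.1 := by rw [SecComp5.apply_section f e he, htx]
      obtain ⟨y', hyx', hyt'⟩ := hmemO t (e (f x)) hsec (hesec _)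
      have hpre := preconnected_fibre_of_counts h ((hUc t ht).2.trans hgen1)
      refine (hpre.image (fun y => (f ⁻¹ᵁ N₁).ι (O.ι y))
        ((f ⁻¹ᵁ N₁).ι.continuous.comp O.ι.continuous).continuousOn).subset_connectedComponentIn
        ⟨y', hyt', hyx'⟩ ?_ ⟨y, hyt, hyx⟩
      rintro _ ⟨w, hw, rfl⟩
      show f ((f ⁻¹ᵁ N₁).ι (O.ι w)) = f x
      rw [hproj, show h w = t from hw, htx]
  have hNsub : ∀ x : X, f x ∈ N₁.ι.base '' U → f x ∈ N₁ := by
    rintro x ⟨t, -, htx⟩
    rw [← show t.1 = f x from htx]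
    exact t.2
  constructor
  · rw [show (Subtype.val ⁻¹' MoreMor.sectionComponents f e : Set ↑(f ⁻¹' (N₁.ι.base '' U))) =
        Subtype.val ⁻¹' Z 0 from Set.ext fun x => key x.1 x.2]
    exact isClosed_closure.preimage continuous_subtype_val
  · rw [show (Subtype.val ⁻¹' MoreMor.sectionComponents f e : Set ↑(f ⁻¹' (N₁.ι.base '' U))) =
        Subtype.val ⁻¹' (Z 1)ᶜ from Set.ext fun x => (key x.1 x.2).trans
          ⟨fun h0 => hdisj x.1 (hNsub x.1 x.2) h0, fun h1 => (hunion x.1 (hNsub x.1 x.2)).resolve_right h1⟩]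
    exact isClosed_closure.isOpen_compl.preimage continuous_subtype_val

end Groth.Agent.GeomComp5
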