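import Groth.Agent.GeomComp5.SectionClopen
import Groth.Agent.ConsPropLib.Loci

/-!
# The components of a section form a locally constructible set (EGA IV 9.7.12)
-/

set_option autoImplicit false
set_option linter.style.haveILetI false
set_option backward.isDefEq.respectTransparency false
set_option backward.isDefEq.respectTransparency.types false

open CategoryTheory CategoryTheory.Limits AlgebraicGeometry Topology TopologicalSpace

namespace Groth.Agent.GeomComp5

universe u

variable {X S : Scheme.{u}} (f : X ⟶ S) (e : S ⟶ X) (he : e ≫ f = 𝟙 S)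

include he

/-- On the part of the source over an open of the closure of a point the components of the section are clopen. -/
theorem exists_clopen_over_closure [LocallyOfFiniteType f] [QuasiCompact f] (y : S) :
    ∃ V : Set S, V ⊆ closure {y} ∧ y ∈ V ∧ (∃ O : Set S, IsOpen O ∧ V = O ∩ closure {y}) ∧
      IsClopen (Subtype.val ⁻¹' MoreMor.sectionComponents f e : Set ↑(f ⁻¹' V)) := by
  obtain ⟨T, j, _, _, hr, hg⟩ := ConsPropLib.exists_integral_closure y
  let f' := pullback.snd f j
  let p := pullback.fst f j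
  let e' : T ⟶ pullback f j := pullback.lift (j ≫ e) (𝟙 _) (by rw [Category.assoc, he, Category.comp_id, Category.id_comp])
  have he' : e' ≫ f' = 𝟙 T := pullback.lift_snd _ _ _
  haveI : LocallyOfFiniteType f' := MorphismProperty.pullback_snd (P := @LocallyOfFiniteType) _ _ inferInstance
  haveI : QuasiCompact f' := MorphismProperty.pullback_snd (P := @QuasiCompact) _ _ inferInstance
  obtain ⟨N, hN, hηN, hclop⟩ := exists_clopen_sectionComponents f' e' he'
  have hsc : MoreMor.sectionComponents f' e' = p ⁻¹' MoreMor.sectionComponents f e :=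
    S1324.result f e he f' p j (IsPullback.of_hasPullback f j) e' he' (pullback.lift_fst _ _ _)
  obtain ⟨O, hO, hON⟩ := j.isEmbedding.isInducing.isOpen_iff.1 hN
  have hV : j.base '' N = O ∩ closure {y} := by
    rw [← hON, Set.image_preimage_eq_inter_range, hr]
  haveI : IsPreimmersion p := MorphismProperty.pullback_fst (P := @IsPreimmersion) _ _ inferInstance
  let m : ↑(f' ⁻¹' N) → ↑(f ⁻¹' (j.base '' N)) := fun x => ⟨p x.1, ⟨f' x.1, x.2, by
    rw [← Scheme.Hom.comp_apply, ← pullback.condition, Scheme.Hom.comp_apply]⟩⟩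
  have hm : Topology.IsInducing m := by
    refine Topology.IsInducing.of_comp (g := Subtype.val) ?_ continuous_subtype_val ?_
    · exact (p.continuous.comp continuous_subtype_val).subtype_mk _
    · exact p.isEmbedding.isInducing.comp IsInducing.subtypeVal
  have hms : Function.Surjective m := by
    rintro ⟨x, t, ht, htx⟩
    obtain ⟨x', hx₁, hx₂⟩ := Scheme.Pullback.exists_preimage_pullback x t htx.symm
    exact ⟨⟨x', by show f' x' ∈ N; rw [hx₂]; exact ht⟩, Subtype.ext hx₁⟩
  refine ⟨j.base '' N, hV ▸ Set.inter_subset_right, ⟨_, hηN, hg⟩, ⟨O, hO, hV⟩, ?_⟩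
  have hpre : m ⁻¹' (Subtype.val ⁻¹' MoreMor.sectionComponents f e) = Subtype.val ⁻¹' MoreMor.sectionComponents f' e' := by
    rw [hsc]
    rfl
  constructor
  · obtain ⟨C, hC, hCe⟩ := hm.isClosed_iff.1 (hpre.symm ▸ hclop.1)
    rwa [← (hms.preimage_injective hCe : C = Subtype.val ⁻¹' MoreMor.sectionComponents f e)]
  · obtain ⟨C, hC, hCe⟩ := hm.isOpen_iff.1 (hpre.symm ▸ hclop.2)
    rwa [← (hms.preimage_injective hCe : C = Subtype.val ⁻¹' MoreMor.sectionComponents f e)]

theorem isConstructible_sectionComponents [AlgebraicGeometry.IsNoetherian S] [LocallyOfFiniteType f] [QuasiCompact f]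
    [AlgebraicGeometry.IsNoetherian X] : IsConstructible (MoreMor.sectionComponents f e) :=
  ConsPropLib.isConstructible_of_dichotomy _ fun T j _ _ _ => by
    let E := MoreMor.sectionComponents f e
    let ξ := j (genericPoint T)
    obtain ⟨V, -, hyV, ⟨O, hO, hVO⟩, hclop⟩ := exists_clopen_over_closure f e he (f ξ)
    have hξV : ξ ∈ f ⁻¹' V := hyV
    have hsub : ∀ t : T, f (j t) ∈ O → j t ∈ f ⁻¹' V := fun t ht => by
      show f (j t) ∈ V
      rw [hVO]
      exact ⟨ht, ((((genericPoint_spec T).specializes (Set.mem_univ t)).map j.continuous).map f.continuous).mem_closure⟩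
    have key : ∀ A : Set X, IsOpen (Subtype.val ⁻¹' A : Set ↑(f ⁻¹' V)) → ξ ∈ A → (interior (j ⁻¹' A)).Nonempty := by
      intro A hA hξA
      obtain ⟨W, hW, hWe⟩ := isOpen_induced_iff.1 hA
      refine ⟨genericPoint T, mem_interior.2 ⟨j ⁻¹' (W ∩ f ⁻¹' O), fun t ht => ?_,
        (hW.inter (hO.preimage f.continuous)).preimage j.continuous,
        ⟨(Set.ext_iff.1 hWe ⟨ξ, hξV⟩).2 hξA, (hVO.le hyV).1⟩⟩⟩
      exact (Set.ext_iff.1 hWe ⟨j t, hsub t ht.2⟩).1 ht.1
    by_cases hξ : ξ ∈ E
    · exact Or.inl (key E hclop.2 hξ)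
    · exact Or.inr (key Eᶜ hclop.1.isOpen_compl hξ)

/-- The components of a section form a locally constructible set. -/
theorem isLocallyConstructible_sectionComponents [LocallyOfFinitePresentation f] [QuasiCompact f] [QuasiSeparated f] :
    IsLocallyConstructible (MoreMor.sectionComponents f e) := by
  choose V hV hxV hVle using fun s : S =>
    exists_isAffineOpen_mem_and_subset (show s ∈ (⊤ : S.Opens) from trivial)
  refine .of_isOpenCover (U := fun s => f ⁻¹ᵁ V s) (eq_top_iff.mpr fun x _ => Opens.mem_iSup.mpr ⟨f x, hxV (f x)⟩)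
    fun s => ?_
  haveI : IsAffine (V s).toScheme := hV s
  let f₁ := f ∣_ V s
  haveI : LocallyOfFinitePresentation f₁ := IsZariskiLocalAtTarget.restrict ‹_› _
  haveI : QuasiCompact f₁ := IsZariskiLocalAtTarget.restrict ‹_› _
  haveI : QuasiSeparated f₁ := IsZariskiLocalAtTarget.restrict ‹_› _
  have hr : Set.range ((V s).ι ≫ e) ⊆ Set.range (f ⁻¹ᵁ V s).ι := by
    rw [Scheme.Opens.range_ι]
    rintro _ ⟨t, rfl⟩
    show f (e ((V s).ι t)) ∈ V s
    rw [SecComp5.apply_section f e he]
    exact t.2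
  let e₁ := IsOpenImmersion.lift (f ⁻¹ᵁ V s).ι ((V s).ι ≫ e) hr
  have he₁ι : e₁ ≫ (f ⁻¹ᵁ V s).ι = (V s).ι ≫ e := IsOpenImmersion.lift_fac _ _ _
  have he₁ : e₁ ≫ f₁ = 𝟙 _ := by
    rw [← cancel_mono (V s).ι, Category.assoc, morphismRestrict_ι, reassoc_of% he₁ι, he, Category.comp_id,
      Category.id_comp]
  have hsc₁ : MoreMor.sectionComponents f₁ e₁ = (f ⁻¹ᵁ V s).ι ⁻¹' MoreMor.sectionComponents f e :=
    S1324.result f e he f₁ _ (V s).ι (isPullback_morphismRestrict f (V s)).flip e₁ he₁ he₁ι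
  show IsLocallyConstructible ((f ⁻¹ᵁ V s).ι ⁻¹' MoreMor.sectionComponents f e)
  rw [← hsc₁]
  haveI : IsIso (e₁ ≫ f₁) := by rw [he₁]; infer_instance
  obtain ⟨S₀, S₁, X₀, π, e₀, g₀, qS, qX, hS₀, hA, hg₀, hg₀c, hefg, hefgc, sqX, sqS⟩ :=
    ConsPropLib.exists_model_mor e₁ f₁
  haveI := hS₀; haveI := hA; haveI := hg₀; haveI := hg₀c; haveI := hefg; haveI := hefgc
  let π' := e₀ ≫ g₀
  haveI : IsLocallyNoetherian S₁ := LocallyOfFiniteType.isLocallyNoetherian π'
  haveI : CompactSpace S₁ := QuasiCompact.compactSpace_of_compactSpace π'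
  haveI : AlgebraicGeometry.IsNoetherian S₁ := {}
  let X₁ := pullback g₀ π'
  let f₀ : X₁ ⟶ S₁ := pullback.snd g₀ π'
  haveI : LocallyOfFiniteType f₀ := MorphismProperty.pullback_snd (P := @LocallyOfFiniteType) _ _ inferInstance
  haveI : QuasiCompact f₀ := MorphismProperty.pullback_snd (P := @QuasiCompact) _ _ inferInstance
  haveI : IsLocallyNoetherian X₁ := LocallyOfFiniteType.isLocallyNoetherian f₀
  haveI : CompactSpace X₁ := QuasiCompact.compactSpace_of_compactSpace f₀
  haveI : AlgebraicGeometry.IsNoetherian X₁ := {}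
  let s₀ : S₁ ⟶ X₁ := pullback.lift e₀ (𝟙 _) (by rw [Category.id_comp])
  have hs₀ : s₀ ≫ f₀ = 𝟙 _ := pullback.lift_snd _ _ _
  have hπ : qS ≫ π' = π := by
    calc qS ≫ π' = (qS ≫ e₀) ≫ g₀ := (Category.assoc _ _ _).symm
      _ = (e₁ ≫ qX) ≫ g₀ := by rw [sqS.w]
      _ = e₁ ≫ f₁ ≫ π := by rw [Category.assoc, sqX.w]
      _ = π := by rw [reassoc_of% he₁]
  let q : (f ⁻¹ᵁ V s).toScheme ⟶ X₁ := pullback.lift qX (f₁ ≫ qS) (by rw [Category.assoc, hπ, sqX.w])
  have sq : IsPullback q f₁ f₀ qS := by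
    refine IsPullback.of_right ?_ (pullback.lift_snd _ _ _) (IsPullback.of_hasPullback g₀ π')
    show IsPullback (q ≫ pullback.fst g₀ π') f₁ g₀ (qS ≫ π')
    rw [pullback.lift_fst, hπ]
    exact sqX
  have hsc := S1324.result f₀ s₀ hs₀ f₁ q qS sq e₁ he₁ (by
    apply pullback.hom_ext
    · rw [Category.assoc, Category.assoc, pullback.lift_fst, pullback.lift_fst, sqS.w]
    · rw [Category.assoc, Category.assoc, pullback.lift_snd, pullback.lift_snd, Category.comp_id,
        reassoc_of% he₁])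
  rw [hsc]
  exact (q.isConstructible_preimage (isConstructible_sectionComponents f₀ s₀ hs₀)).isLocallyConstructible

end Groth.Agent.GeomComp5
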