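import Groth.Agent.GeomComp5.Data
import Groth.Agent.GeomIrrSpread.Neutral

/-!
# A decomposition spreads out from the generic point
-/

set_option autoImplicit false
set_option linter.style.haveILetI false
set_option backward.isDefEq.respectTransparency false
set_option backward.isDefEq.respectTransparency.types false

open CategoryTheory CategoryTheory.Limits AlgebraicGeometry Topology

namespace Groth.Agent.GeomComp5

universe u

variable {X S : Scheme.{u}} (f : X ⟶ S)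

open GeomIrrSpread in
/-- Geometric irreducibility of an affine piece of a fibre is read on the chart locus. -/
theorem isIrreducible_iff_mem_chartLocus [LocallyOfFinitePresentation f] {V : S.Opens} (hV : IsAffineOpen V)
    {W : X.Opens} (hW : IsAffineOpen W) (hWV : W ≤ f ⁻¹ᵁ V) {L : Type u} [Field L] [IsAlgClosed L]
    (g : Spec (CommRingCat.of L) ⟶ S) (p : Spec Γ(S, V)) (hp : hV.fromSpec p = pt g) :
    IsIrreducible (pullback.fst f g ⁻¹' (W : Set X)) ↔ p ∈ chartLocus (G := Over.mk f) hWV := by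
  haveI : LocallyOfFinitePresentation (W.ι ≫ (Over.mk f).hom) :=
    inferInstanceAs (LocallyOfFinitePresentation (W.ι ≫ f))
  have hfp := finitePresentation_appLE (G := Over.mk f) hV hW hWV
  have hgV : Set.range g ⊆ Set.range hV.fromSpec := by
    rw [range_eq_pt]; exact Set.singleton_subset_iff.mpr ⟨p, hp⟩
  obtain ⟨ρ, hρ⟩ := Spec.map_surjective (IsOpenImmersion.lift hV.fromSpec g hgV)
  have hρg : Spec.map ρ ≫ hV.fromSpec = g := by rw [hρ, IsOpenImmersion.lift_fac]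
  have hker : RingHom.ker ρ.hom = p.asIdeal := by
    have h : Spec.map ρ (IsLocalRing.closedPoint L) = p := hV.fromSpec.isOpenEmbedding.injective (by
      rw [← Scheme.Hom.comp_apply, hρg, hp]
      rfl)
    rw [← h]
    show _ = (IsLocalRing.maximalIdeal L).comap ρ.hom
    rw [IsLocalRing.maximalIdeal_eq_bot, RingHom.ker_eq_comap_bot]
  rw [mem_chartLocus_iff (G := Over.mk f) hV hW hWV hfp p L ρ hker, hρg]
  show _ ↔ IrreducibleSpace ↥(pullback (hW.fromSpec ≫ f) g)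
  let k := (pullbackRightPullbackFstIso f g hW.fromSpec).inv ≫ pullback.snd _ _
  haveI : IsOpenImmersion k := inferInstance
  have hrk : Set.range k = pullback.fst f g ⁻¹' (W : Set X) := by
    rw [Scheme.Hom.comp_base, TopCat.coe_comp, Set.range_comp,
      Set.range_eq_univ.mpr (pullbackRightPullbackFstIso f g hW.fromSpec).inv.surjective,
      Set.image_univ, Scheme.Pullback.range_snd, hW.range_fromSpec]
  rw [← hrk]
  constructor
  · intro h
    have hpre := h.isPreirreducible.preimage k.isOpenEmbedding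
    rw [Set.preimage_range] at hpre
    obtain ⟨_, z, rfl⟩ := h.nonempty
    exact { isPreirreducible_univ := hpre, toNonempty := ⟨z⟩ }
  · intro h
    rw [← Set.image_univ]
    exact (IrreducibleSpace.isIrreducible_univ _).image _ k.continuous.continuousOn

/-- The geometric point over a point. -/
noncomputable def geomPt (s : S) : Spec (CommRingCat.of (AlgebraicClosure (S.residueField s))) ⟶ S :=
  Spec.map (CommRingCat.ofHom (algebraMap (S.residueField s) (AlgebraicClosure (S.residueField s)))) ≫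
    S.fromSpecResidueField s

theorem pt_geomPt (s : S) : pt (geomPt s) = s := by
  rw [pt, geomPt, Scheme.Hom.comp_apply]
  exact Scheme.fromSpecResidueField_apply _ _

variable [IsIntegral S] [IsNoetherian S] [IsAffine S] [LocallyOfFiniteType f] [QuasiCompact f]

theorem exists_nhd_counts {ι : Type*} [Finite ι] (W : ι → X.Opens) (hW : ∀ i, IsAffineOpen (W i))
    {L : Type u} [Field L] [IsAlgClosed L] (g : Spec (CommRingCat.of L) ⟶ S) (hg : pt g = genericPoint S)
    (hD : Dec f W g) :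
    ∃ U : Set S, IsOpen U ∧ genericPoint S ∈ U ∧ ∀ s ∈ U,
      MoreMor.nGeomIrredComp f s = MoreMor.nGeomIrredComp f (genericPoint S) ∧
      MoreMor.nGeomConnComp f s = MoreMor.nGeomConnComp f (genericPoint S) := by
  classical
  haveI : LocallyOfFinitePresentation f := inferInstance
  haveI : IsLocallyNoetherian X := LocallyOfFiniteType.isLocallyNoetherian f
  haveI : CompactSpace X := QuasiCompact.compactSpace_of_compactSpace f
  haveI : IsNoetherian X := {}
  let η := genericPoint S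
  have hF : F f g = f ⁻¹' {η} := by rw [F, hg]
  let Z : ι → Set X := fun i => closure ((W i : Set X) ∩ f ⁻¹' {η})
  have hcl : ∀ {A : Set X}, IsClosed A → IsConstructible A := fun {A} hA => by
    have : IsConstructible Aᶜ :=
      (TopologicalSpace.NoetherianSpace.isCompact Aᶜ).isConstructible hA.isOpen_compl
    simpa using this.compl
  have hWc : ∀ i, IsConstructible (W i : Set X) := fun i =>
    (TopologicalSpace.NoetherianSpace.isCompact _).isConstructible (W i).isOpen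
  -- the pieces stay dense in their closures
  have key : ∀ i, ∃ U : Set S, IsOpen U ∧ η ∈ U ∧ ∀ s ∈ U,
      closure ((W i : Set X) ∩ f ⁻¹' {s}) ∩ f ⁻¹' {s} = Z i ∩ f ⁻¹' {s} := by
    intro i
    obtain ⟨U₁, o₁, η₁, k₁⟩ := ConsPropLib.exists_nhd_dense f (hWc i) (hcl isClosed_closure)
      (Z' := Z i) (fun x hx => hx.1)
    obtain ⟨U₂, o₂, η₂, k₂⟩ := ConsPropLib.image_avoid f ((hWc i).sdiff (hcl (isClosed_closure : IsClosed (Z i))))
      (fun x hx e => hx.2 (subset_closure ⟨hx.1, e⟩))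
    refine ⟨U₁ ∩ U₂, o₁.inter o₂, ⟨η₁, η₂⟩, fun s hs => subset_antisymm ?_ ?_⟩
    · refine Set.inter_subset_inter_left _ (isClosed_closure.closure_subset_iff.2 fun x hx => ?_)
      by_contra hxZ
      exact k₂ x ⟨hx.1, hxZ⟩ (show f x ∈ U₂ from (show f x = s from hx.2).symm ▸ hs.2)
    · exact fun x hx => ⟨k₁ s hs.1 hx, hx.2⟩
  choose U₁ o₁ η₁ k₁ using key
  -- irreducibility of the pieces
  have hVtop : IsAffineOpen (⊤ : S.Opens) := isAffineOpen_top S
  have key2 : ∀ i, ∃ U : Set S, IsOpen U ∧ η ∈ U ∧ ∀ s ∈ U,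
      IsIrreducible (pullback.fst f (geomPt s) ⁻¹' (W i : Set X)) := by
    intro i
    have hsur : ∀ s : S, ∃ p, hVtop.fromSpec p = s := fun s => by
      show s ∈ Set.range hVtop.fromSpec
      rw [hVtop.range_fromSpec]; trivial
    haveI : LocallyOfFinitePresentation ((W i).ι ≫ (Over.mk f).hom) :=
      inferInstanceAs (LocallyOfFinitePresentation ((W i).ι ≫ f))
    let C := GeomIrrSpread.chartLocus (G := Over.mk f) (show W i ≤ f ⁻¹ᵁ ⊤ from fun _ _ => trivial)
    have hC : IsConstructible C := GeomIrrSpread.isConstructible_chartLocus _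
      (GeomIrrSpread.finitePresentation_appLE (G := Over.mk f) hVtop (hW i) _)
    let E : Set S := hVtop.fromSpec '' C
    have hE : IsConstructible E := Scheme.Hom.isConstructible_image hVtop.fromSpec hC
    obtain ⟨p, hp⟩ := hsur η
    have hpC : p ∈ C := (isIrreducible_iff_mem_chartLocus f hVtop (hW i) _ g p (hp.trans hg.symm)).1 (hD.irr i)
    obtain ⟨U, hUE, hU, hηU⟩ := mem_nhds_iff.1 (FibDim.mem_nhds_of_generizations hE.isLocallyConstructible
      (y := η) fun t ht => by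
        rw [(ht.antisymm ((genericPoint_spec S).specializes (Set.mem_univ _))).eq]
        exact ⟨p, hpC, hp⟩)
    refine ⟨U, hU, hηU, fun s hs => ?_⟩
    obtain ⟨q, hqC, hqs⟩ := hUE hs
    exact (isIrreducible_iff_mem_chartLocus f hVtop (hW i) _ (geomPt s) q (hqs.trans (pt_geomPt s).symm)).2 hqC
  choose U₂ o₂ η₂ k₂ using key2
  obtain ⟨U₃, o₃, η₃, k₃⟩ := ConsPropLib.image_avoid f
    (A := (⋃ i, Z i)ᶜ) (hcl (isClosed_iUnion_of_finite fun i => isClosed_closure)).compl (fun x hx e => by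
      have h' := hD.cov (hF.ge e)
      simp only [hF] at h'
      exact hx h')
  have key4 : ∀ ij : ι × ι, ∃ U : Set S, IsOpen U ∧ η ∈ U ∧ (ij.1 ≠ ij.2 → ∀ x ∈ (W ij.1 : Set X) ∩ Z ij.2, f x ∉ U) := by
    intro ij
    by_cases h : ij.1 = ij.2
    · exact ⟨Set.univ, isOpen_univ, trivial, fun h' => absurd h h'⟩
    obtain ⟨U, hU, hηU, k⟩ := ConsPropLib.image_avoid f ((hWc ij.1).inter (hcl (isClosed_closure : IsClosed (Z ij.2))))
      (fun x hx e => by
        have h' := hD.disj _ _ h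
        simp only [hF] at h'
        exact Set.eq_empty_iff_forall_notMem.1 h' x ⟨hx, e⟩)
    exact ⟨U, hU, hηU, fun _ => k⟩
  choose U₄ o₄ η₄ k₄ using key4
  have key5 : ∀ ij : ι × ι, ∃ U : Set S, IsOpen U ∧ η ∈ U ∧ ∀ s ∈ U,
      ((Z ij.1 ∩ Z ij.2 ∩ f ⁻¹' {s}).Nonempty ↔ (Z ij.1 ∩ Z ij.2 ∩ f ⁻¹' {η}).Nonempty) := by
    intro ij
    have hc : IsConstructible (Z ij.1 ∩ Z ij.2) := hcl (isClosed_closure.inter isClosed_closure)
    by_cases h : (Z ij.1 ∩ Z ij.2 ∩ f ⁻¹' {η}).Nonempty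
    · obtain ⟨x, hx, hxη⟩ := h
      obtain ⟨U, hU, hηU, k⟩ := ConsPropLib.image_meet f hc hx hxη
      exact ⟨U, hU, hηU, fun s hs => iff_of_true (let ⟨y, hy, hys⟩ := k s hs; ⟨y, hy, hys⟩) ⟨x, hx, hxη⟩⟩
    · obtain ⟨U, hU, hηU, k⟩ := ConsPropLib.image_avoid f hc (fun x hx e => h ⟨x, hx, e⟩)
      exact ⟨U, hU, hηU, fun s hs => iff_of_false (fun ⟨y, hy, hys⟩ => k y hy
        (show f y ∈ U from (show f y = s from hys).symm ▸ hs)) h⟩
  choose U₅ o₅ η₅ k₅ using key5
  obtain ⟨hIη, hCη⟩ := hD.counts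
  refine ⟨(⋂ i, U₁ i) ∩ (⋂ i, U₂ i) ∩ U₃ ∩ (⋂ ij, U₄ ij) ∩ (⋂ ij, U₅ ij),
    ((((isOpen_iInter_of_finite o₁).inter (isOpen_iInter_of_finite o₂)).inter o₃).inter
      (isOpen_iInter_of_finite o₄)).inter (isOpen_iInter_of_finite o₅),
    ⟨⟨⟨⟨Set.mem_iInter.2 η₁, Set.mem_iInter.2 η₂⟩, η₃⟩, Set.mem_iInter.2 η₄⟩, Set.mem_iInter.2 η₅⟩, ?_⟩
  rintro s ⟨⟨⟨⟨hs₁, hs₂⟩, hs₃⟩, hs₄⟩, hs₅⟩
  simp only [Set.mem_iInter] at hs₁ hs₂ hs₄ hs₅
  have hF' : F f (geomPt s) = f ⁻¹' {s} := by rw [F, pt_geomPt]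
  have hD' : Dec f W (geomPt s) := by
    refine ⟨fun i => k₂ i s (hs₂ i), fun x hx => ?_, fun i j hij => ?_⟩
    · rw [hF'] at hx ⊢
      obtain ⟨i, hi⟩ := Set.mem_iUnion.1 (by_contra fun h => k₃ x h
        (show f x ∈ U₃ from (show f x = s from hx).symm ▸ hs₃) : x ∈ ⋃ i, Z i)
      exact Set.mem_iUnion.2 ⟨i, ((k₁ i s (hs₁ i)).ge ⟨hi, hx⟩).1⟩
    · rw [hF']
      refine Set.eq_empty_iff_forall_notMem.2 fun x ⟨⟨hxi, hxj⟩, hxs⟩ => k₄ (i, j) hij x
        ⟨hxi, ((k₁ j s (hs₁ j)).le ⟨hxj, hxs⟩).1⟩ (show f x ∈ U₄ (i, j) from (show f x = s from hxs).symm ▸ hs₄ _)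
  obtain ⟨hIs, hCs⟩ := hD'.counts
  rw [pt_geomPt] at hIs hCs
  rw [hg] at hIη hCη
  refine ⟨hIs.trans hIη.symm, hCs.trans (Eq.trans ?_ hCη.symm)⟩
  congr 2
  ext i j
  have hset : ∀ t : S, (∀ k, closure ((W k : Set X) ∩ f ⁻¹' {t}) ∩ f ⁻¹' {t} = Z k ∩ f ⁻¹' {t}) →
      (Pattern f W t i j ↔ (Z i ∩ Z j ∩ f ⁻¹' {t}).Nonempty) := fun t h => by
    rw [Pattern, show closure ((W i : Set X) ∩ f ⁻¹' {t}) ∩ closure ((W j : Set X) ∩ f ⁻¹' {t}) ∩ f ⁻¹' {t} =
      (closure ((W i : Set X) ∩ f ⁻¹' {t}) ∩ f ⁻¹' {t}) ∩ (closure ((W j : Set X) ∩ f ⁻¹' {t}) ∩ f ⁻¹' {t}) from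
      by ext; simp; tauto, h i, h j, show (Z i ∩ f ⁻¹' {t}) ∩ (Z j ∩ f ⁻¹' {t}) = Z i ∩ Z j ∩ f ⁻¹' {t} from
      by ext; simp; tauto]
  rw [hset s (fun k => k₁ k s (hs₁ k)), hset η (fun k => rfl)]
  exact k₅ (i, j) s (hs₅ _)

end Groth.Agent.GeomComp5
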